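import Cfsg.Agent.EqualDegrees.Single

/-!
# The centre of a block algebra and the Brauer map

The centre of a union of blocks has as many dimensions as characters (`finrank_centre`).  When all
primitive idempotents of the block are equivalent and of rank one the centre maps onto the corner,
so a central element killed by the Brauer map at a subgroup centralizing a defect class element is
zero.
-/

set_option autoImplicit false
set_option linter.unusedSectionVars false
set_option linter.style.haveILetI false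

namespace CfsgLib.EqualDegrees

open Cfsg CfsgLib.BlockPairs CfsgLib.Star
open CfsgLib.Blocks (localRing red Res idemBar setIdemO isBlockUnion_of_isPBlock
  memLocalRing_blockCoeff IsBlockUnion)
open scoped ComplexConjugate

universe u

variable {M : Ideal AlgInt} [M.IsPrime] {G : Type u} [Group G] [Fintype G]

/-- The centre of the algebra of an idempotent. -/
noncomputable def centre (e : GA (Res M) G) : Submodule (Res M) (GA (Res M) G) :=
  (Subalgebra.toSubmodule (sub (F := Res M) (⊤ : Subgroup G) ⊤)).map (LinearMap.mulLeft (Res M) e)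

theorem central_of_mem_sub {z : GA (Res M) G} (hz : z ∈ sub (F := Res M) (⊤ : Subgroup G) ⊤)
    (x : GA (Res M) G) : z * x = x * z := mul_comm_of_fixed_supp hz.2 (isSupp_top x)

theorem central_of_mem_centre {e z : GA (Res M) G} (he : IsBlock (⊤ : Subgroup G) e)
    (hz : z ∈ centre e) (x : GA (Res M) G) : z * x = x * z := by
  obtain ⟨w, hw, rfl⟩ := hz
  exact central_of_mem_sub (mul_mem he.mem hw) x

open Classical in
theorem finrank_centre_le {A : Set (IrrCharacter G)} (hA : IsBlockUnion M A) :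
    Module.finrank (Res M) (centre (idemBar M A hA : GA (Res M) G)) ≤ Nat.card A := by
  haveI := Fintype.ofFinite (ConjClasses G)
  let eO : CfsgLib.Blocks.Ctr (localRing M) G := setIdemO M A (memLocalRing_blockCoeff hA)
  let V : G → ConjClasses G → localRing M := fun g C =>
    ((eO * CfsgLib.Blocks.classSum (localRing M) C : CfsgLib.Blocks.Ctr (localRing M) G) :
      MonoidAlgebra (localRing M) G).coeff g
  have hred : ∀ C, (fun g => red M (V g C)) =
      fun g => ((idemBar M A hA : GA (Res M) G) *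
        (CfsgLib.Blocks.classSum (Res M) C : GA (Res M) G)).coeff g := by
    intro C
    funext g
    have h1 : CfsgLib.Blocks.redCtr M (eO * CfsgLib.Blocks.classSum (localRing M) C) =
        idemBar M A hA * CfsgLib.Blocks.classSum (Res M) C := by
      rw [map_mul, CfsgLib.Blocks.redCtr, CfsgLib.Blocks.mapCtr_classSum]
      rfl
    rw [← Subring.coe_mul, ← h1, CfsgLib.Blocks.redCtr, CfsgLib.Blocks.coeff_mapCtr]
  have hle := BlocksLocal.finrank_span_red_le V
    (Submodule.span ℂ (Set.range fun χ : A => fun g : G => conj ((χ : IrrCharacter G) : G → ℂ) g))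
    (fun C => by
      have hfun : (fun g => (V g C : ℂ)) = ∑ χ ∈ A.toFinset,
          ((Nat.card G : ℂ)⁻¹ * ((χ : G → ℂ) 1 *
            CfsgLib.Blocks.omega χ (CfsgLib.Blocks.classSum ℂ C))) •
              (fun g : G => conj ((χ : G → ℂ) g)) := by
        funext g
        have h1 := CfsgLib.Blocks.coeff_eq_sum_omega
          (CfsgLib.Blocks.toC M (eO * CfsgLib.Blocks.classSum (localRing M) C)) g
        have h2 : (CfsgLib.Blocks.toC M (eO * CfsgLib.Blocks.classSum (localRing M) C) :
            MonoidAlgebra ℂ G).coeff g = (V g C : ℂ) := by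
          rw [CfsgLib.Blocks.toC, CfsgLib.Blocks.coeff_mapCtr]
          rfl
        rw [← h2, h1, Finset.sum_apply, Finset.mul_sum, map_mul, CfsgLib.Blocks.toC_setIdemO]
        refine ((Finset.sum_subset (s₁ := A.toFinset) (Finset.subset_univ _)
          fun χ _ hχ => ?_).symm.trans (Finset.sum_congr rfl fun χ hχ => ?_))
        · rw [map_mul, CfsgLib.Blocks.omega_setIdemC, if_neg (fun h => hχ (Set.mem_toFinset.2 h))]
          simp
        · rw [map_mul, CfsgLib.Blocks.omega_setIdemC, if_pos (Set.mem_toFinset.1 hχ),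
            CfsgLib.Blocks.toC, CfsgLib.Blocks.mapCtr_classSum]
          simp only [Pi.smul_apply, smul_eq_mul]; ring
      rw [hfun]
      refine Submodule.sum_mem _ fun χ hχ => Submodule.smul_mem _ _ (Submodule.subset_span ?_)
      exact ⟨⟨χ, Set.mem_toFinset.1 hχ⟩, rfl⟩)
  refine le_trans ?_ (hle.trans ?_)
  · let ι : GA (Res M) G ≃ₗ[Res M] (G → Res M) :=
      (MonoidAlgebra.coeffLinearEquiv (Res M)).trans (Finsupp.linearEquivFunOnFinite (Res M) (Res M) G)
    rw [← LinearEquiv.finrank_map_eq ι]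
    refine Submodule.finrank_mono ?_
    rintro _ ⟨_, ⟨z, hz, rfl⟩, rfl⟩
    let zc : CfsgLib.Blocks.Ctr (Res M) G := ⟨z, CfsgLib.Blocks.mem_ctr_iff.2 fun g h =>
      hz.2.coeff' (Subgroup.mem_top h) g⟩
    have h1 := congrArg (fun w : CfsgLib.Blocks.Ctr (Res M) G => (idemBar M A hA : GA (Res M) G) *
      (w : GA (Res M) G)) (CfsgLib.Blocks.eq_sum_classSum zc)
    simp only [AddSubmonoidClass.coe_finsetSum, Subring.coe_mul, Finset.mul_sum] at h1
    rw [LinearMap.mulLeft_apply, show (idemBar M A hA : GA (Res M) G) * z = _ from h1]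
    rw [LinearEquiv.coe_coe, map_sum]
    refine Submodule.sum_mem _ fun C _ => ?_
    rw [CfsgLib.Blocks.coe_scalar, show ∀ (r : Res M) (y : GA (Res M) G),
        MonoidAlgebra.single 1 r * y = r • y from fun r y => ga_ext fun g => by
      simp [MonoidAlgebra.coeff_single_mul_apply], mul_smul_comm, map_smul]
    exact Submodule.smul_mem _ _ (Submodule.subset_span ⟨C, hred C⟩)
  · rw [Nat.card_eq_fintype_card]
    exact finrank_range_le_card _

open Classical in
/-- The centre of a union of blocks has as many dimensions as characters. -/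
theorem finrank_centre {A : Set (IrrCharacter G)} (hA : IsBlockUnion M A) :
    Module.finrank (Res M) (centre (idemBar M A hA : GA (Res M) G)) = Nat.card A := by
  haveI := Fintype.ofFinite (ConjClasses G)
  refine le_antisymm (finrank_centre_le hA) ?_
  have h1 := finrank_centre_le (M := M) (CfsgLib.Blocks.isBlockUnion_compl hA)
  let L : (ConjClasses G → Res M) →ₗ[Res M] GA (Res M) G :=
    { toFun := fun f => CfsgLib.Blocks.ofFun fun g => f (ConjClasses.mk g)
      map_add' := fun f f' => ga_ext fun g => by simp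
      map_smul' := fun r f => ga_ext fun g => by simp }
  have hL : Function.Injective L := fun f f' h => funext fun C => by
    obtain ⟨g, rfl⟩ := ConjClasses.mk_surjective C
    have := congrArg (fun a : GA (Res M) G => a.coeff g) h
    simpa [L] using this
  have hle : LinearMap.range L ≤ centre (idemBar M A hA : GA (Res M) G) ⊔
      centre (idemBar M Aᶜ (CfsgLib.Blocks.isBlockUnion_compl hA) : GA (Res M) G) := by
    rintro _ ⟨f, rfl⟩
    have hs : L f ∈ Subalgebra.toSubmodule (sub (F := Res M) (⊤ : Subgroup G) ⊤) := by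
      refine ⟨isSupp_top _, fun u _ => ga_ext fun g => ?_⟩
      rw [conjA_coeff]
      show (CfsgLib.Blocks.ofFun _).coeff _ = (CfsgLib.Blocks.ofFun _).coeff g
      rw [CfsgLib.Blocks.coeff_ofFun, CfsgLib.Blocks.coeff_ofFun]
      exact congrArg f (ConjClasses.mk_eq_mk_iff_isConj.2 (isConj_iff.2 ⟨u, by group⟩))
    refine Submodule.mem_sup.2 ⟨_, ⟨L f, hs, rfl⟩, _, ⟨L f, hs, rfl⟩, ?_⟩
    simp only [LinearMap.mulLeft_apply, ← add_mul, ← Subring.coe_add,
      CfsgLib.Blocks.idemBar_add_compl hA, Subring.coe_one, one_mul]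
  have h2 := (Submodule.finrank_mono hle).trans (Submodule.finrank_add_le_finrank_add_finrank _ _)
  rw [LinearMap.finrank_range_of_inj hL, Module.finrank_fintype_fun_eq_card,
    ← Nat.card_eq_fintype_card, ← Characters.card_irrCharacter] at h2
  have h3 := Set.ncard_add_ncard_compl A
  rw [← Nat.card_coe_set_eq, ← Nat.card_coe_set_eq] at h3
  omega

variable {p : ℕ} [hp : Fact p.Prime] [CharP (Res M) p] [IsAlgClosed (Res M)]
  {B : Set (IrrCharacter G)}

/-- The corner of a primitive idempotent of the block consists of the products with the centre. -/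
theorem exists_centre_mul (hB : Cfsg.IsPBlock M B) {d : ℕ}
    (hd : ∀ χ ∈ B, Cfsg.charDegree ((χ : IrrCharacter G) : G → ℂ) = d)
    {s : Finset (GA (Res M) G)}
    (hs : IsDecomp (⊤ : Subalgebra (Res M) (GA (Res M) G)) (gblk M B) s) (hcard : s.card = d)
    {a : GA (Res M) G} (ha : a ∈ s)
    (heqv : ∀ b ∈ s, Eqv (⊤ : Subalgebra (Res M) (GA (Res M) G)) a b) (x : GA (Res M) G) :
    ∃ z ∈ centre (gblk M B), a * x * a = z * a := by
  classical
  have hgb := isBlock_gblk (M := M) hB
  set e := gblk M B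
  have hc : ∀ y, e * y = y * e := fun y => mul_comm_of_fixed_supp hgb.fixed (isSupp_top y)
  obtain ⟨u, v, hua, hva, huv'⟩ := BlocksLocal.exists_frame hs ha
  have huv : ∀ l ∈ s, InCorner (⊤ : Subalgebra (Res M) (GA (Res M) G)) l a (u l) ∧
      InCorner (⊤ : Subalgebra (Res M) (GA (Res M) G)) a l (v l) ∧ u l * v l = l ∧
      v l * u l = a := fun l hl => huv' l (mem_part.2 ⟨hl, heqv l hl⟩)
  have haa : a * a = a := (hs.1 a ha).2.1
  let Λ := LinearMap.mulLeft (Res M) a ∘ₗ LinearMap.mulRight (Res M) a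
  set A0 : Submodule (Res M) (GA (Res M) G) := LinearMap.range Λ
  have hA0 : ∀ y, a * y * a ∈ A0 := fun y => ⟨y, by simp [Λ, mul_assoc]⟩
  let Φ : GA (Res M) G →ₗ[Res M] (s → s → A0) :=
    LinearMap.pi fun l => LinearMap.pi fun m => LinearMap.codRestrict A0
      (LinearMap.mulLeft (Res M) (v l) ∘ₗ LinearMap.mulRight (Res M) (u m)) fun y => by
        refine ⟨v l * y * u m, ?_⟩
        simp only [Λ, LinearMap.coe_comp, Function.comp_apply, LinearMap.mulLeft_apply,
          LinearMap.mulRight_apply]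
        rw [mul_assoc (v l * y), (huv m m.2).1.2.2, mul_assoc (v l), ← mul_assoc a,
          (huv l l.2).2.1.2.1]
  set E := LinearMap.range (LinearMap.mulLeft (Res M) e)
  have hinjΦ : Function.Injective (Φ.domRestrict E) := by
    refine LinearMap.ker_eq_bot.1 (LinearMap.ker_eq_bot'.2 fun y hy => Subtype.ext ?_)
    have hee : e * (y : GA (Res M) G) = y := by
      obtain ⟨w, hw⟩ := y.2
      rw [← hw, LinearMap.mulLeft_apply, ← mul_assoc, hgb.idem]
    calc (y : GA (Res M) G) = ∑ l ∈ s, ∑ m ∈ s, l * (y : GA (Res M) G) * m := by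
          rw [Finset.sum_congr rfl fun l _ =>
            (Finset.mul_sum s (fun m => m) (l * (y : GA (Res M) G))).symm, hs.2.2, ← Finset.sum_mul,
            ← Finset.sum_mul, hs.2.2, hee, ← hc, hee]
      _ = 0 := by
          refine Finset.sum_eq_zero fun l hl => Finset.sum_eq_zero fun m hm => ?_
          have h0 : v l * ((y : GA (Res M) G) * u m) = 0 :=
            congrArg Subtype.val (congrFun (congrFun hy ⟨l, hl⟩) ⟨m, hm⟩)
          rw [← (huv l hl).2.2.1, ← (huv m hm).2.2.1]
          calc u l * v l * (y : GA (Res M) G) * (u m * v m)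
              = u l * (v l * ((y : GA (Res M) G) * u m)) * v m := by simp only [mul_assoc]
            _ = 0 := by rw [h0, mul_zero, zero_mul]
  have hsurjΦ : Function.Surjective (Φ.domRestrict E) := by
    intro F
    set y := ∑ l : s, ∑ m : s, u l * (F l m : GA (Res M) G) * v m with hy
    have hyE : y ∈ E := ⟨y, by
      rw [LinearMap.mulLeft_apply, hy, Finset.mul_sum]
      refine Finset.sum_congr rfl fun l _ => ?_
      rw [Finset.mul_sum]
      refine Finset.sum_congr rfl fun m _ => ?_
      rw [← mul_assoc, ← mul_assoc, show e * u l = u l by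
        rw [← (huv l l.2).1.2.1, ← mul_assoc, (hs.mul_mem_eq l.2).1]]⟩
    refine ⟨⟨y, hyE⟩, funext fun l => funext fun m => Subtype.ext ?_⟩
    show v l * (y * u m) = _
    rw [hy, Finset.sum_mul, Finset.mul_sum, Finset.sum_eq_single l (fun l' _ hne => ?_) (by simp),
      Finset.sum_mul, Finset.mul_sum, Finset.sum_eq_single m (fun m' _ hne => ?_) (by simp)]
    · obtain ⟨w, hw⟩ := (F l m).2
      simp only [Λ, LinearMap.coe_comp, Function.comp_apply, LinearMap.mulLeft_apply,
        LinearMap.mulRight_apply] at hw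
      rw [← hw]
      calc v l * (u l * (a * (w * a)) * v m * u m)
          = (v l * u l) * (a * (w * a)) * (v m * u m) := by simp only [mul_assoc]
        _ = _ := by
            rw [(huv l l.2).2.2.2, (huv m m.2).2.2.2, ← mul_assoc a a, haa, mul_assoc a (w * a),
              mul_assoc w, haa]
    · have h0 : v m' * u m = 0 := by
        rw [← (huv m' m'.2).2.1.2.2, ← (huv m m.2).1.2.1, mul_assoc, ← mul_assoc (m' : GA (Res M) G),
          hs.2.1 m' m'.2 m m.2 (fun h => hne (Subtype.ext h)), zero_mul, mul_zero]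
      rw [mul_assoc (u l * _) (v m'), h0, mul_zero, mul_zero]
    · have h0 : v l * u l' = 0 := by
        rw [← (huv l l.2).2.1.2.2, ← (huv l' l'.2).1.2.1, mul_assoc, ← mul_assoc (l : GA (Res M) G),
          hs.2.1 l l.2 l' l'.2 (fun h => hne (Subtype.ext h.symm)), zero_mul, mul_zero]
      rw [Finset.sum_mul, Finset.mul_sum]
      refine Finset.sum_eq_zero fun m' _ => ?_
      simp only [← mul_assoc, h0, zero_mul]
  have hd0 : 0 < d := hcard ▸ Finset.card_pos.2 ⟨a, ha⟩
  have hdim : Module.finrank (Res M) A0 = Nat.card B := by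
    have h := (LinearEquiv.ofBijective _ ⟨hinjΦ, hsurjΦ⟩).finrank_eq
    have h' := BlocksLocal.finrank_blockAlgebra (M := M) (isBlockUnion_of_isPBlock hB)
    rw [← CyclicDefect.gblk_eq_idemBar hB] at h'
    rw [h', Module.finrank_pi_fintype, Finset.sum_congr rfl fun _ _ =>
        Module.finrank_pi_fintype (Res M),
      finsum_mem_eq_toFinset_sum, Finset.sum_congr rfl fun (χ : IrrCharacter G) hχ =>
        show Cfsg.charDegree (χ : G → ℂ) ^ 2 = d ^ 2 by rw [hd χ (Set.mem_toFinset.1 hχ)]] at h
    simp only [Finset.sum_const, Finset.card_univ, Fintype.card_coe, hcard, smul_eq_mul] at h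
    rw [Set.toFinset_card, ← Nat.card_eq_fintype_card] at h
    refine Nat.eq_of_mul_eq_mul_left (mul_pos hd0 hd0) ?_
    rw [mul_assoc, ← h]; ring
  let ψ : centre e →ₗ[Res M] A0 := LinearMap.codRestrict A0
    ((LinearMap.mulRight (Res M) a).comp (centre e).subtype) fun z => ⟨z, by
      simp only [Λ, LinearMap.coe_comp, Function.comp_apply, LinearMap.mulLeft_apply,
        LinearMap.mulRight_apply, Submodule.coe_subtype]
      rw [← mul_assoc, ← central_of_mem_centre hgb z.2, mul_assoc, haa]⟩
  have hψ : Function.Injective ψ := by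
    refine LinearMap.ker_eq_bot.1 (LinearMap.ker_eq_bot'.2 fun z hz => Subtype.ext ?_)
    have hz' : (z : GA (Res M) G) * a = 0 := congrArg Subtype.val hz
    have hzc := central_of_mem_centre hgb z.2
    have hez : e * (z : GA (Res M) G) = z := by
      obtain ⟨w, -, hwz⟩ := z.2
      rw [← hwz, LinearMap.mulLeft_apply, ← mul_assoc, hgb.idem]
    calc (z : GA (Res M) G) = e * z := hez.symm
      _ = ∑ l ∈ s, u l * ((z : GA (Res M) G) * a) * v l := by
          refine (congrArg (· * (z : GA (Res M) G)) hs.2.2.symm).trans ?_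
          rw [Finset.sum_mul]
          refine Finset.sum_congr rfl fun l hl => ?_
          rw [← mul_assoc (u l), ← hzc (u l), mul_assoc (z : GA (Res M) G), (huv l hl).1.2.2,
            mul_assoc, (huv l hl).2.2.1, hzc]
      _ = 0 := Finset.sum_eq_zero fun l _ => by rw [hz', mul_zero, zero_mul]
  have hfin : Module.finrank (Res M) (centre e) = Nat.card B := by
    have h := finrank_centre (M := M) (isBlockUnion_of_isPBlock hB)
    rwa [← CyclicDefect.gblk_eq_idemBar hB] at h
  obtain ⟨z, hz⟩ := (LinearMap.injective_iff_surjective_of_finrank_eq_finrank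
    (hfin.trans hdim.symm)).1 hψ ⟨a * x * a, hA0 x⟩
  exact ⟨z, z.2, (congrArg Subtype.val hz).symm⟩

/-- The Brauer map is injective on the centre of the block. -/
theorem eq_zero_of_br (hM : Cfsg.IsPModular p M) (hB : Cfsg.IsPBlock M B) {d : ℕ}
    (hd : ∀ χ ∈ B, Cfsg.charDegree ((χ : IrrCharacter G) : G → ℂ) = d)
    {g₀ : G} (hg₀ : Cfsg.IsDefectClass M B g₀) {D : Subgroup G}
    (hDg : D ≤ Subgroup.centralizer ({g₀} : Set G)) (hDp : IsPGroup p D)
    (h0 : ∀ χ ∈ B, ¬ Cfsg.MemLocalIdeal M (((χ : IrrCharacter G) : G → ℂ) g₀))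
    {z : GA (Res M) G} (hz : z ∈ centre (gblk M B)) (hbr : br D z = 0) : z = 0 := by
  classical
  have hgb := isBlock_gblk (M := M) hB
  obtain ⟨s, hs⟩ := exists_decomp (A := (⊤ : Subalgebra (Res M) (GA (Res M) G)))
    (j := gblk M B) trivial hgb.idem
  obtain ⟨hcard, hsing⟩ := single_class hs hM hB hd
  obtain ⟨a, ha⟩ : s.Nonempty := by
    rw [Finset.nonempty_iff_ne_empty]
    intro h
    exact hgb.ne_zero (by rw [← hs.2.2, h, Finset.sum_empty])
  obtain ⟨heqv, -⟩ := hsing a ha
  have hreg : ¬ p ∣ orderOf g₀ := fun h => hg₀.2.1 (by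
    rw [CfsgLib.Blocks.blockCoeff_eq_zero_of_singular hM (isBlockUnion_of_isPBlock hB) h]
    exact CfsgLib.Blocks.memLocalIdeal_zero)
  obtain ⟨c, hcχ, hctr⟩ := exists_regular_scalar hs hM hB (fun b hb => (hsing b hb).2) heqv
    (hs.1 a ha).2.1 hreg
  obtain ⟨χ₀, hχ₀⟩ := CfsgLib.Blocks.isPBlock_nonempty hB
  have hcne : red M c ≠ 0 := by
    rw [Ne, CfsgLib.Blocks.red_eq_zero_iff, ← hcχ χ₀ hχ₀]
    exact h0 χ₀ hχ₀
  obtain ⟨u, v, -, -, huv'⟩ := BlocksLocal.exists_frame hs ha
  obtain ⟨w, hw, rfl⟩ := hz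
  rw [LinearMap.mulLeft_apply] at hbr ⊢
  set z := gblk M B * w
  have hcz : z ∈ sub (F := Res M) (⊤ : Subgroup G) ⊤ := mul_mem hgb.mem hw
  have hze : z * gblk M B = z := by
    rw [central_of_mem_sub hcz, ← mul_assoc, hgb.idem]
  have hfix : ∀ {q}, q ∈ sub (F := Res M) (⊤ : Subgroup G) ⊤ → IsFixed D q := fun hq =>
    hq.2.mono le_top
  refine ga_ext fun g => ?_
  have hl : (z * MonoidAlgebra.single g⁻¹ 1).coeff 1 = z.coeff g := by
    rw [MonoidAlgebra.coeff_mul_single_apply, mul_one, inv_inv, one_mul]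
  rw [← hl, ← hze, mul_assoc, ← hs.2.2, Finset.sum_mul, Finset.mul_sum, MonoidAlgebra.coeff_sum,
    Finsupp.finsetSum_apply]
  refine Finset.sum_eq_zero fun l hl => ?_
  obtain ⟨hu, hv, hul, -⟩ := huv' l (mem_part.2 ⟨hl, heqv l hl⟩)
  obtain ⟨ζ, hζ, hζa⟩ := exists_centre_mul hB hd hs hcard ha heqv
    (v l * MonoidAlgebra.single g⁻¹ 1 * u l)
  obtain ⟨w', hw', rfl⟩ := hζ
  rw [LinearMap.mulLeft_apply] at hζa
  set ζ := gblk M B * w'
  have hcζ : ζ ∈ sub (F := Res M) (⊤ : Subgroup G) ⊤ := mul_mem hgb.mem hw'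
  have hcp : ∀ y, z * ζ * y = y * (z * ζ) := central_of_mem_sub (mul_mem hcz hcζ)
  have h1 : v l * MonoidAlgebra.single g⁻¹ 1 * u l = ζ * a := by
    rw [← hζa, ← mul_assoc a, ← mul_assoc a, hv.2.1, mul_assoc _ (u l), hu.2.2]
  have key : (z * ζ * a).coeff 1 = 0 := by
    have h2 := hctr (z * ζ) hcp
    rw [← mul_assoc, show z * ζ * gblk M B = z * ζ by
      rw [mul_assoc, central_of_mem_sub hcζ, ← mul_assoc, hze],
      MonoidAlgebra.coeff_mul_single_apply, mul_one, one_mul] at h2
    have h3 : (z * ζ).coeff g₀⁻¹ = 0 := by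
      have hmem : g₀⁻¹ ∈ Subgroup.centralizer (D : Set G) := by
        refine inv_mem (Subgroup.mem_centralizer_iff.2 fun x hx => ?_)
        exact Subgroup.mem_centralizer_singleton_iff.1 (hDg hx)
      have h4 : br D (z * ζ) = 0 := by
        rw [br_mul hDp (hfix hcz) (hfix hcζ), hbr, zero_mul]
      have h5 := congrArg (fun y : GA (Res M) G => y.coeff g₀⁻¹) h4
      simpa [br_coeff_mem _ _ hmem] using h5
    rw [h3] at h2
    exact (mul_eq_zero.1 h2.symm).resolve_left hcne
  calc (z * (l * MonoidAlgebra.single g⁻¹ 1)).coeff 1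
      = (z * (u l * (v l * MonoidAlgebra.single g⁻¹ 1))).coeff 1 := by rw [← mul_assoc (u l), hul]
    _ = (v l * MonoidAlgebra.single g⁻¹ 1 * (z * u l)).coeff 1 := by
        rw [← mul_assoc z, coeff_one_mul_comm]
    _ = (z * ζ * a).coeff 1 := by
        rw [central_of_mem_sub hcz (u l), ← mul_assoc, ← central_of_mem_sub hcz, h1, ← mul_assoc z]
    _ = 0 := key

end CfsgLib.EqualDegrees
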