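import Cfsg.Agent.Star.Section
import Cfsg.Agent.SmallBlock.Counting
import Cfsg.Agent.Blocks.RegularSupport
import Cfsg.Agent.BlockDegrees.RegularGen
import Cfsg.Agent.BlocksLocal.ProjTrace
import Cfsg.Agent.BlockPairs.RegularSpan

/-!
# The lattice of multiplicities of the lifted primitive idempotents of a block

Relations between these multiplicities are divisible by `p` only if their coefficients are
(`dvd_coeff`), and the multiplicities span the constant vector when the sum of the block's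
members vanishes on the p-singular elements (`exists_coeff_one`).
-/

set_option autoImplicit false
set_option linter.unusedSectionVars false
set_option linter.style.haveILetI false
set_option linter.unnecessarySeqFocus false

namespace CfsgLib.EqualDegrees

open Cfsg CfsgLib.BlockPairs CfsgLib.Star
open CfsgLib.Blocks (localRing red Res idemBar setIdemO isBlockUnion_of_isPBlock
  memLocalRing_blockCoeff)
open CfsgLib.BlockPairing (regInner)
open scoped ComplexConjugate

universe u

variable {p : ℕ} [hp : Fact p.Prime] {M : Ideal AlgInt} [M.IsPrime] {G : Type u} [Group G]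
  [Fintype G] {B : Set (IrrCharacter G)}


theorem T_one {f : G → ℂ} (hf : Cfsg.IsClassFunction G f) {j : GA (Res M) G}
    {E : MonoidAlgebra (localRing M) G} (hE : E * E = E) (h : rho M G E = j) :
    T M f 1 j = tau M f E := by
  rw [T_eq hf hE ⟨by rw [← MonoidAlgebra.one_def]; exact Commute.one_left _, h⟩,
    ← MonoidAlgebra.one_def, one_mul]

theorem exists_nat_T (χ : IrrCharacter G) {j : GA (Res M) G} (hj : j * j = j) :
    ∃ n : ℕ, T M (χ : G → ℂ) 1 j = n := by
  obtain ⟨E, hE, hEz⟩ := exists_lift (M := M) j hj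
  obtain ⟨m, hm, -⟩ := CyclicDefect.exists_rank (Characters.isCharacter_of_isIrr χ.2) hE
  exact ⟨m, by rw [T_one (Characters.isClassFunction_of_isIrr χ.2) hE
    (hEz 1 (conjA_one_left j)).2, hm]⟩

/-- The trace over `1` of a decomposition. -/
theorem T_decomp {f : G → ℂ} (hf : Cfsg.IsClassFunction G f) {j : GA (Res M) G}
    {s : Finset (GA (Res M) G)} (hs : IsDecomp (⊤ : Subalgebra (Res M) (GA (Res M) G)) j s) :
    T M f 1 j = ∑ a ∈ s, T M f 1 a := by
  rw [← hs.2.2, T_sum hf 1 s (fun a => a) (fun a ha => (hs.1 a ha).2.1)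
    (fun a ha b hb hab => hs.2.1 a ha b hb hab) (fun a _ => conjA_one_left a)]

theorem T_congr {f : G → ℂ} (hf : Cfsg.IsClassFunction G f) {a b : GA (Res M) G}
    (ha : a * a = a) (hb : b * b = b) (h : Eqv (⊤ : Subalgebra (Res M) (GA (Res M) G)) a b) : T M f 1 a = T M f 1 b := by
  obtain ⟨x, -, y, -, hxy, hyx⟩ := h
  exact T_equiv hf ha hb hxy hyx (conjA_one_left x) (conjA_one_left y)

theorem T_gblk_not_mem (hB : Cfsg.IsPBlock M B) {χ : IrrCharacter G} (hχ : χ ∉ B) :
    T M (χ : G → ℂ) 1 (gblk M B) = 0 := by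
  classical
  have hBu := isBlockUnion_of_isPBlock hB
  have hidem : (setIdemO M B (memLocalRing_blockCoeff hBu) : MonoidAlgebra (localRing M) G) *
      (setIdemO M B (memLocalRing_blockCoeff hBu) : MonoidAlgebra (localRing M) G) =
      (setIdemO M B (memLocalRing_blockCoeff hBu) : MonoidAlgebra (localRing M) G) := by
    rw [← Subring.coe_mul]
    congr 1
    exact CfsgLib.Blocks.ctr_ext_omegaO fun ψ => by
      rw [map_mul, CfsgLib.Blocks.omegaO_setIdemO]; split_ifs <;> simp
  rw [T_one (Characters.isClassFunction_of_isIrr χ.2) hidem (gblk_eq hBu),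
    ← mul_one (setIdemO M B (memLocalRing_blockCoeff hBu) : MonoidAlgebra (localRing M) G),
    tau_mul_setIdemO χ hBu, if_neg hχ]

variable {s : Finset (GA (Res M) G)} (hs : IsDecomp (⊤ : Subalgebra (Res M) (GA (Res M) G)) (gblk M B) s)
include hs

theorem T_mem_not_mem (hB : Cfsg.IsPBlock M B) {χ : IrrCharacter G} (hχ : χ ∉ B)
    {a : GA (Res M) G} (ha : a ∈ s) : T M (χ : G → ℂ) 1 a = 0 := by
  classical
  choose! n hn using fun b (hb : b ∈ s) => exists_nat_T χ (hs.1 b hb).2.1
  have h := (T_decomp (Characters.isClassFunction_of_isIrr χ.2) hs).symm.trans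
    (T_gblk_not_mem hB hχ)
  rw [Finset.sum_congr rfl hn, ← Nat.cast_sum, Nat.cast_eq_zero, Finset.sum_eq_zero_iff] at h
  rw [hn a ha, h a ha, Nat.cast_zero]

/-- Representatives of the classes of a decomposition. -/
structure Reps (s R : Finset (GA (Res M) G)) : Prop where
  sub : R ⊆ s
  inj : ∀ a ∈ R, ∀ b ∈ R, Eqv (⊤ : Subalgebra (Res M) (GA (Res M) G)) a b → a = b
  cover : ∀ b ∈ s, ∃ a ∈ R, Eqv (⊤ : Subalgebra (Res M) (GA (Res M) G)) a b

theorem exists_reps : ∃ R, Reps (M := M) s R := by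
  classical
  suffices ∀ t ⊆ s, ∃ R ⊆ t, (∀ a ∈ R, ∀ b ∈ R, Eqv (⊤ : Subalgebra (Res M) (GA (Res M) G)) a b → a = b) ∧
      ∀ b ∈ t, ∃ a ∈ R, Eqv (⊤ : Subalgebra (Res M) (GA (Res M) G)) a b by
    obtain ⟨R, h1, h2, h3⟩ := this s subset_rfl
    exact ⟨R, h1, h2, h3⟩
  intro t ht
  induction t using Finset.induction_on with
  | empty => exact ⟨∅, subset_rfl, by simp, by simp⟩
  | insert x t hx ih =>
    rw [Finset.insert_subset_iff] at ht
    obtain ⟨R, h1, h2, h3⟩ := ih ht.2
    by_cases h : ∃ a ∈ R, Eqv (⊤ : Subalgebra (Res M) (GA (Res M) G)) a x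
    · refine ⟨R, h1.trans (Finset.subset_insert _ _), h2, fun b hb => ?_⟩
      rcases Finset.mem_insert.1 hb with rfl | hb
      · exact h
      · exact h3 b hb
    · refine ⟨insert x R, Finset.insert_subset_insert _ h1, fun a ha b hb hab => ?_, fun b hb => ?_⟩
      · rcases Finset.mem_insert.1 ha with rfl | haR <;>
          rcases Finset.mem_insert.1 hb with rfl | hbR
        · rfl
        · exact absurd ⟨b, hbR, hab.symm⟩ h
        · exact absurd ⟨a, haR, hab⟩ h
        · exact h2 a haR b hbR hab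
      · rcases Finset.mem_insert.1 hb with rfl | hb
        · exact ⟨b, Finset.mem_insert_self _ _, Eqv.refl (hs.1 b ht.1)⟩
        · obtain ⟨a, ha, hab⟩ := h3 b hb
          exact ⟨a, Finset.mem_insert_of_mem ha, hab⟩

variable {R : Finset (GA (Res M) G)} (hR : Reps (M := M) s R)
include hR

theorem sum_over_reps {β : Type*} [AddCommMonoid β] (f : GA (Res M) G → β) :
    ∑ b ∈ s, f b = ∑ a ∈ R, ∑ b ∈ part (⊤ : Subalgebra (Res M) (GA (Res M) G)) s a, f b := by
  classical
  rw [← Finset.sum_biUnion]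
  · refine Finset.sum_congr (Finset.ext fun b => ?_) fun _ _ => rfl
    simp only [Finset.mem_biUnion, mem_part]
    exact ⟨fun hb => (hR.cover b hb).imp fun a ha => ⟨ha.1, hb, ha.2⟩, fun ⟨_, _, hb, _⟩ => hb⟩
  · intro a ha a' ha' hne
    refine Finset.disjoint_left.2 fun b hb hb' => hne ?_
    obtain ⟨hbs, h1⟩ := mem_part.1 hb
    exact hR.inj a ha a' ha' (h1.trans (mem_part.1 hb').2.symm (hs.1 a (hR.sub ha)).2.1
      (hs.1 a' (hR.sub ha')).2.1)

theorem degree_eq_sum (hB : Cfsg.IsPBlock M B) {χ : IrrCharacter G} (hχ : χ ∈ B) :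
    (χ : G → ℂ) 1 = ∑ a ∈ R, ((part (⊤ : Subalgebra (Res M) (GA (Res M) G)) s a).card : ℂ) * T M (χ : G → ℂ) 1 a := by
  have hcl := Characters.isClassFunction_of_isIrr χ.2
  rw [← SmallBlock.T_gblk hB hχ, T_decomp hcl hs, sum_over_reps hs hR]
  refine Finset.sum_congr rfl fun a ha => ?_
  rw [← nsmul_eq_mul, ← Finset.sum_const]
  refine Finset.sum_congr rfl fun b hb => ?_
  exact (T_congr hcl (hs.1 a (hR.sub ha)).2.1 (hs.1 b (mem_part.1 hb).1).2.1
    (mem_part.1 hb).2).symm

variable [CharP (Res M) p] [IsAlgClosed (Res M)]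

/-- The multiplicities of an idempotent below the block are combinations of those of the
representatives. -/
theorem exists_coeff_of_idem {f : GA (Res M) G} (hf : f * f = f) (hef : gblk M B * f = f) :
    ∃ c : GA (Res M) G → ℕ, ∀ χ : IrrCharacter G,
      T M (χ : G → ℂ) 1 f = ∑ a ∈ R, (c a : ℂ) * T M (χ : G → ℂ) 1 a := by
  classical
  obtain ⟨t, ht⟩ := exists_decomp (A := (⊤ : Subalgebra (Res M) (GA (Res M) G))) trivial hf
  have hrep : ∀ x ∈ t, ∃ a ∈ R, Eqv (⊤ : Subalgebra (Res M) (GA (Res M) G)) a x := by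
    intro x hx
    obtain ⟨b, hb, hxb⟩ := exists_eqv_mem hs (ht.1 x hx)
      (by rw [← (ht.mul_mem_eq hx).1, ← mul_assoc, hef])
    obtain ⟨a, ha, hab⟩ := hR.cover b hb
    exact ⟨a, ha, hab.trans hxb.symm (hs.1 a (hR.sub ha)).2.1 (ht.1 x hx).2.1⟩
  choose! r hr hre using hrep
  refine ⟨fun a => (t.filter fun x => r x = a).card, fun χ => ?_⟩
  rw [T_decomp (Characters.isClassFunction_of_isIrr χ.2) ht,
    ← Finset.sum_fiberwise_of_maps_to hr]
  refine Finset.sum_congr rfl fun a ha => ?_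
  rw [← nsmul_eq_mul, ← Finset.sum_const]
  refine Finset.sum_congr rfl fun x hx => ?_
  obtain ⟨hx1, hx2⟩ := Finset.mem_filter.1 hx
  exact (T_congr (Characters.isClassFunction_of_isIrr χ.2) (hs.1 a (hR.sub ha)).2.1
    (ht.1 x hx1).2.1 (hx2 ▸ hre x hx1)).symm

/-- The coefficients of a relation divisible by `p` are divisible by `p`. -/
theorem dvd_coeff (hM : Cfsg.IsPModular p M) (hB : Cfsg.IsPBlock M B)
    (c : GA (Res M) G → ℤ)
    (h : ∀ χ ∈ B, ∃ w : ℤ, ∑ a ∈ R, (c a : ℂ) * T M (χ : G → ℂ) 1 a = (p : ℂ) * w)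
    {a : GA (Res M) G} (ha : a ∈ R) : (p : ℤ) ∣ c a := by
  classical
  have hex : ∀ j : GA (Res M) G, ∃ E : MonoidAlgebra (localRing M) G,
      j * j = j → E * E = E ∧ rho M G E = j := fun j => by
    by_cases hj : j * j = j
    · obtain ⟨E, hE, hEz⟩ := exists_lift (M := M) j hj
      exact ⟨E, fun _ => ⟨hE, (hEz 1 (conjA_one_left j)).2⟩⟩
    · exact ⟨0, fun h' => absurd h' hj⟩
  choose E hE using hex
  set X : GA (Res M) G := ∑ b ∈ R, (c b : Res M) • b with hXdef
  have hall : ∀ χ : IrrCharacter G, ∃ w : ℤ,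
      ∑ b ∈ R, (c b : ℂ) * T M (χ : G → ℂ) 1 b = (p : ℂ) * w := fun χ => by
    by_cases hχ : χ ∈ B
    · exact h χ hχ
    · refine ⟨0, ?_⟩
      rw [Int.cast_zero, mul_zero]
      exact Finset.sum_eq_zero fun b hb => by rw [T_mem_not_mem hs hB hχ (hR.sub hb), mul_zero]
  choose w hw using hall
  have hX : BlocksLocal.classTrace (Res M) G X = 0 := by
    funext C
    show (∑ x : G, if ConjClasses.mk x = C then X.coeff x else 0) = 0
    set θ : G → ℂ := fun g => if ConjClasses.mk g = C then 1 else 0 with hθ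
    have hθc : ∀ g h : G, θ (h * g * h⁻¹) = θ g := fun g h => by
      simp only [hθ]
      rw [show ConjClasses.mk (h * g * h⁻¹) = ConjClasses.mk g from
        ConjClasses.mk_eq_mk_iff_isConj.2 (isConj_iff.2 ⟨h, rfl⟩).symm]
    obtain ⟨b, hb, hb'⟩ := CfsgLib.Blocks.exists_regular_extension hM θ (fun g => by
      simp only [hθ]
      split_ifs
      · exact Subring.one_mem (localRing M)
      · exact Subring.zero_mem (localRing M)) hθc
    have key : ∀ j, j * j = j → ∑ g : G, ((E j).coeff g : ℂ) * θ g =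
        ∑ χ : IrrCharacter G, b χ * T M (χ : G → ℂ) 1 j := by
      intro j hj
      have h0 := BlocksLocal.sum_coeff_mul_eq_zero_of_idempotent hM (E j) (hE j hj).1
        (fun g => θ g - ∑ χ : IrrCharacter G, b χ * (χ : G → ℂ) g)
        (fun g h => by
          simp only [hθc]
          congr 1
          exact Finset.sum_congr rfl fun χ _ => by
            rw [Characters.isClassFunction_of_isIrr χ.2])
        (fun g hg => by rw [hb' g hg, sub_self])
      simp only [mul_sub, Finset.sum_sub_distrib, sub_eq_zero] at h0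
      rw [h0]
      simp only [Finset.mul_sum]
      rw [Finset.sum_comm]
      refine Finset.sum_congr rfl fun χ _ => ?_
      rw [T_one (Characters.isClassFunction_of_isIrr χ.2) (hE j hj).1 (hE j hj).2, tau_apply,
        Finset.mul_sum]
      exact Finset.sum_congr rfl fun g _ => by ring
    set Z : localRing M := ∑ x : G, if ConjClasses.mk x = C then
      ∑ d ∈ R, (c d : localRing M) * (E d).coeff x else 0 with hZ
    have hred : red M Z = ∑ x : G, if ConjClasses.mk x = C then X.coeff x else 0 := by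
      rw [hZ, map_sum]
      refine Finset.sum_congr rfl fun x _ => ?_
      split_ifs
      · rw [map_sum, hXdef, MonoidAlgebra.coeff_sum, Finsupp.finsetSum_apply]
        refine Finset.sum_congr rfl fun d hd => ?_
        rw [map_mul, map_intCast, MonoidAlgebra.coeff_smul, Finsupp.smul_apply, smul_eq_mul,
          ← rho_coeff, (hE d (hs.1 d (hR.sub hd)).2.1).2]
      · exact map_zero _
    rw [← hred, CfsgLib.Blocks.red_eq_zero_iff]
    have hval : (Z : ℂ) = ∑ χ : IrrCharacter G, b χ * ((p : ℂ) * w χ) := by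
      have h1 : (Z : ℂ) = ∑ d ∈ R, (c d : ℂ) * ∑ g : G, ((E d).coeff g : ℂ) * θ g := by
        simp only [hZ, AddSubmonoidClass.coe_finsetSum, Finset.mul_sum]
        rw [Finset.sum_comm]
        refine Finset.sum_congr rfl fun g _ => ?_
        simp only [hθ]
        split_ifs with hg
        · simp
        · simp
      rw [h1, Finset.sum_congr rfl fun d hd => by rw [key d (hs.1 d (hR.sub hd)).2.1]]
      simp only [Finset.mul_sum]
      rw [Finset.sum_comm]
      refine Finset.sum_congr rfl fun χ _ => ?_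
      rw [← hw χ, Finset.mul_sum]
      exact Finset.sum_congr rfl fun d _ => by ring
    rw [hval]
    refine CfsgLib.Blocks.memLocalIdeal_sum _ fun χ _ => ?_
    rw [show b χ * ((p : ℂ) * w χ) = (b χ * w χ) * (p : ℂ) by ring]
    exact CfsgLib.Blocks.memLocalIdeal_mul_left
      (Subring.mul_mem (localRing M) (hb χ) (intCast_mem (localRing M) _))
      ((CfsgLib.Blocks.memLocalIdeal_natCast_iff hM p).2 dvd_rfl)
  have hc : ∀ x, gblk M B * x = x * gblk M B := fun x =>
    mul_comm_of_fixed_supp (isBlock_gblk hB).fixed (isSupp_top x)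
  obtain ⟨φ, hφ, -, hφa, hφ0⟩ := BlocksLocal.exists_trace hc hs (hR.sub ha)
  have h1 := BlocksLocal.eq_zero_of_classTrace_eq_zero φ hφ hX
  rw [hXdef, map_sum, Finset.sum_eq_single a (fun b hb hne => ?_) (fun h' => absurd ha h'),
    map_smul, hφa, smul_eq_mul, mul_one] at h1
  · exact (CharP.intCast_eq_zero_iff (Res M) p _).1 h1
  · rw [map_smul, hφ0 b (hR.sub hb) (fun he => hne (hR.inj a ha b hb he).symm), smul_zero]

/-- The coefficients of a relation divisible by a power of `p` are divisible by it. -/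
theorem pow_dvd_coeff (hM : Cfsg.IsPModular p M) (hB : Cfsg.IsPBlock M B) (m : ℕ) :
    ∀ c : GA (Res M) G → ℤ,
      (∀ χ ∈ B, ∃ w : ℤ, ∑ a ∈ R, (c a : ℂ) * T M (χ : G → ℂ) 1 a = (p : ℂ) ^ m * w) →
      ∀ a ∈ R, (p : ℤ) ^ m ∣ c a := by
  induction m with
  | zero => intro c _ a _; rw [pow_zero]; exact one_dvd _
  | succ m ih =>
    intro c h a ha
    have h1 : ∀ b ∈ R, (p : ℤ) ∣ c b := fun b hb => dvd_coeff hs hR hM hB c (fun χ hχ => by
      obtain ⟨w, hw⟩ := h χ hχ
      exact ⟨p ^ m * w, by rw [hw]; push_cast; ring⟩) hb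
    choose! c' hc' using h1
    have h2 := ih c' (fun χ hχ => by
      obtain ⟨w, hw⟩ := h χ hχ
      refine ⟨w, mul_left_cancel₀ (Nat.cast_ne_zero.2 hp.out.ne_zero : (p : ℂ) ≠ 0) ?_⟩
      rw [Finset.mul_sum, ← mul_assoc, ← pow_succ', ← hw]
      refine Finset.sum_congr rfl fun b hb => ?_
      rw [hc' b hb]; push_cast; ring) a ha
    rw [hc' a ha, pow_succ']
    exact mul_dvd_mul_left _ h2

/-- The multiplicities of the representatives are independent. -/
theorem coeff_eq_zero (hM : Cfsg.IsPModular p M) (hB : Cfsg.IsPBlock M B)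
    (c : GA (Res M) G → ℤ) (h : ∀ χ ∈ B, ∑ a ∈ R, (c a : ℂ) * T M (χ : G → ℂ) 1 a = 0)
    {a : GA (Res M) G} (ha : a ∈ R) : c a = 0 := by
  obtain ⟨m, hm⟩ : ∃ m, (c a).natAbs < p ^ m := ⟨(c a).natAbs, Nat.lt_pow_self hp.out.one_lt⟩
  have h1 := Int.natAbs_dvd_natAbs.2
    (pow_dvd_coeff hs hR hM hB m c (fun χ hχ => ⟨0, by rw [h χ hχ, Int.cast_zero, mul_zero]⟩) a ha)
  rw [Int.natAbs_pow, Int.natAbs_natCast] at h1
  exact Int.natAbs_eq_zero.1 (Nat.eq_zero_of_dvd_of_lt h1 hm)

/-- The multiplicities of the idempotent attached to a linear character of a subgroup of order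
prime to `p`. -/
theorem exists_coeff_linear (hM : Cfsg.IsPModular p M) (hB : Cfsg.IsPBlock M B) {Q : Type u}
    [Group Q] [Fintype Q] (hQ : ¬ p ∣ Nat.card Q) (i : Q →* G) (l : Q →* ℂˣ) :
    ∃ c : GA (Res M) G → ℕ, ∀ χ ∈ B,
      (Nat.card Q : ℂ)⁻¹ * ∑ q : Q, (l q : ℂ) * conj ((χ : G → ℂ) (i q)) =
        ∑ a ∈ R, (c a : ℂ) * T M (χ : G → ℂ) 1 a := by
  classical
  have hBu := isBlockUnion_of_isPBlock hB
  have hl : ∀ q, Cfsg.MemLocalRing M (l q : ℂ) := fun q =>
    CfsgLib.Blocks.memLocalRing_of_isIntegral (IsIntegral.of_pow (orderOf_pos q) (by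
      rw [← Units.val_pow_eq_pow_val, ← map_pow, pow_orderOf_eq_one, map_one, Units.val_one]
      exact isIntegral_one))
  let lO : Q → localRing M := fun q => ⟨(l q : ℂ), hl q⟩
  let φ : Q →* MonoidAlgebra (localRing M) G :=
    { toFun := fun q => MonoidAlgebra.single (i q) (lO q⁻¹)
      map_one' := by
        rw [map_one, inv_one, show lO 1 = 1 from Subtype.ext (by simp [lO]),
          ← MonoidAlgebra.one_def]
      map_mul' := fun a b => by
        rw [MonoidAlgebra.single_mul_single, map_mul]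
        congr 1
        refine Subtype.ext ?_
        simp only [lO, Subring.coe_mul, mul_inv_rev, map_mul, Units.val_mul]
        ring }
  obtain ⟨r, hr⟩ := (CfsgLib.Blocks.isUnit_natCast hM hQ).exists_left_inv
  set S := ∑ q : Q, φ q
  set j := r • S with hjdef
  have hS : S * S = (Nat.card Q : localRing M) • S := by
    rw [Finset.sum_mul, Finset.sum_congr rfl (g := fun _ : Q => S) fun a _ => ?_,
      Finset.sum_const, Finset.card_univ, Nat.cast_smul_eq_nsmul, Nat.card_eq_fintype_card]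
    rw [Finset.mul_sum]
    exact Fintype.sum_equiv (Equiv.mulLeft a) _ _ fun b => (map_mul φ a b).symm
  have hj : j * j = j := by
    simp only [hjdef, smul_mul_assoc, mul_smul_comm, hS, smul_smul]
    rw [hr, mul_one]
  set E₀ := (setIdemO M B (memLocalRing_blockCoeff hBu) : MonoidAlgebra (localRing M) G) with hE₀
  have hE₀c : Commute E₀ j :=
    (Subring.mem_center_iff.1 (setIdemO M B (memLocalRing_blockCoeff hBu)).2 j).symm
  have hE₀i : E₀ * E₀ = E₀ := by
    rw [hE₀, ← Subring.coe_mul]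
    congr 1
    exact CfsgLib.Blocks.ctr_ext_omegaO fun ψ => by
      rw [map_mul, CfsgLib.Blocks.omegaO_setIdemO]; split_ifs <;> simp
  have hprod : (E₀ * j) * (E₀ * j) = E₀ * j := by
    rw [hE₀c.symm.mul_mul_mul_comm, hE₀i, hj]
  obtain ⟨c, hc⟩ := exists_coeff_of_idem hs hR (f := rho M G (E₀ * j))
    (by rw [← map_mul, hprod])
    (by rw [← gblk_eq hBu, ← map_mul, ← mul_assoc, hE₀i])
  refine ⟨c, fun χ hχ => ?_⟩
  have hrC : (r : ℂ) = (Nat.card Q : ℂ)⁻¹ := eq_inv_of_mul_eq_one_left (by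
    have := congrArg (Subtype.val : localRing M → ℂ) hr
    simpa using this)
  rw [← hc χ, T_one (Characters.isClassFunction_of_isIrr χ.2) hprod rfl, hE₀,
    tau_mul_setIdemO χ hBu, if_pos hχ]
  have htau : tau M (χ : G → ℂ) j = (r : ℂ) * ∑ q : Q, (lO q⁻¹ : ℂ) * (χ : G → ℂ) (i q) := by
    rw [tau_apply]
    simp only [hjdef, S, φ, MonoidAlgebra.coeff_smul, MonoidAlgebra.coeff_sum, Finset.mul_sum,
      Finsupp.smul_apply, Finsupp.finsetSum_apply, smul_eq_mul, MonoidHom.coe_mk, OneHom.coe_mk,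
      MonoidAlgebra.coeff_single, Subring.coe_mul, AddSubmonoidClass.coe_finsetSum,
      Finset.sum_mul]
    rw [Finset.sum_comm]
    refine Finset.sum_congr rfl fun q _ => ?_
    rw [Finset.sum_eq_single (i q) (fun g _ hg => by simp [Ne.symm hg]) (by simp),
      Finsupp.single_eq_same]
    ring
  rw [htau, hrC]
  congr 1
  refine Fintype.sum_equiv (Equiv.inv Q) _ _ fun q => ?_
  simp only [Equiv.inv_apply, inv_inv, lO, map_inv]
  rw [Characters.character_inv (Characters.isCharacter_of_isIrr χ.2)]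

/-- The pairing on the p-regular elements with an induced linear character. -/
theorem exists_coeff_induced (hM : Cfsg.IsPModular p M) (hB : Cfsg.IsPBlock M B) {E : Subgroup G}
    {q : ℕ} (hq : q.Prime) (hE : Cfsg.IsElementary q E) (l : E →* ℂˣ) :
    ∃ c : GA (Res M) G → ℤ, ∀ χ ∈ B,
      ((p : ℂ) ^ (Nat.card G).factorization p) *
          regInner p (Cfsg.indFun E (fun e => (l e : ℂ))) (χ : G → ℂ) =
        ∑ a ∈ R, (c a : ℂ) * T M (χ : G → ℂ) 1 a := by
  classical
  obtain ⟨Q, hQn, hQ, n, hn⟩ :=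
    BlockDegrees.exists_normal_pComplement_of_elementary hp.out hq hE
  haveI := hQn
  haveI := Fintype.ofFinite E
  haveI := Fintype.ofFinite Q
  have hle : n ≤ (Nat.card G).factorization p := by
    rw [← Nat.Prime.pow_dvd_iff_le_factorization hp.out Nat.card_pos.ne', ← hn]
    exact (Subgroup.index_dvd_card Q).trans E.card_subgroup_dvd_card
  obtain ⟨c, hc⟩ := exists_coeff_linear hs hR hM hB hQ (E.subtype.comp Q.subtype)
    (l.comp Q.subtype)
  refine ⟨fun a => (p : ℤ) ^ ((Nat.card G).factorization p - n) * c a, fun χ hχ => ?_⟩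
  have hcl := Characters.isClassFunction_of_isIrr χ.2
  have hind : Cfsg.IsClassFunction G (fun g => if p ∣ orderOf g then (0 : ℂ) else 1) :=
    fun g h => by
      simp only [show h * g * h⁻¹ = MulAut.conj h g from rfl, MulEquiv.orderOf_eq]
  rw [Contributions.regInner_eq_classInner]
  have hreg : BlocksLocal.regPart p (Cfsg.indFun E (fun e => (l e : ℂ))) =
      Cfsg.indFun E (fun e : E => (l e : ℂ) * if p ∣ orderOf (e : G) then 0 else 1) := by
    rw [Characters.indFun_mul E _ hind]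
    funext g
    simp only [BlocksLocal.regPart]
    split_ifs <;> simp
  rw [hreg, Characters.classInner_indFun E _ hcl, Cfsg.classInner]
  have hsum : ∑ e : E, ((l e : ℂ) * if p ∣ orderOf (e : G) then 0 else 1) *
      conj ((χ : G → ℂ) e) = ∑ x : Q, (l x : ℂ) * conj ((χ : G → ℂ) (x : E)) := by
    rw [← Finset.sum_subset (Finset.subset_univ (Finset.univ.filter fun e : E => e ∈ Q))]
    · refine (Finset.sum_subtype _ (fun e => by simp) _).trans (Finset.sum_congr rfl fun x _ => ?_)
      rw [Subgroup.orderOf_coe,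
        if_neg ((BlockDegrees.mem_iff_not_dvd_orderOf hp.out hQ hn x.1).1 x.2), mul_one]
    · intro e _ he
      have he' : e ∉ Q := fun h => he (Finset.mem_filter.2 ⟨Finset.mem_univ _, h⟩)
      rw [Subgroup.orderOf_coe, if_pos (not_not.1 fun h =>
        he' ((BlockDegrees.mem_iff_not_dvd_orderOf hp.out hQ hn e).2 h)), mul_zero, zero_mul]
  rw [hsum]
  have h2 := hc χ hχ
  simp only [MonoidHom.comp_apply, Subgroup.coe_subtype] at h2
  push_cast
  simp only [mul_assoc, ← Finset.mul_sum]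
  rw [← h2, ← Subgroup.index_mul_card Q, hn]
  push_cast
  rw [mul_inv, ← mul_assoc, ← mul_assoc, ← mul_assoc]
  congr 2
  conv_lhs => rw [← Nat.sub_add_cancel hle, pow_add]
  rw [mul_assoc ((p : ℂ) ^ _), mul_inv_cancel₀
    (pow_ne_zero _ (Nat.cast_ne_zero.2 hp.out.ne_zero)), mul_one]

/-- The regular pairing with a character. -/
theorem exists_coeff_character (hM : Cfsg.IsPModular p M) (hB : Cfsg.IsPBlock M B) {θ : G → ℂ}
    (hθ : Cfsg.IsCharacter G θ) :
    ∃ c : GA (Res M) G → ℤ, ∀ χ ∈ B,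
      ((p : ℂ) ^ (Nat.card G).factorization p) * regInner p θ (χ : G → ℂ) =
        ∑ a ∈ R, (c a : ℂ) * T M (χ : G → ℂ) 1 a := by
  classical
  obtain ⟨l, hl, rfl⟩ := Characters.brauer_induction hθ
  clear hθ
  induction l with
  | nil =>
    exact ⟨0, fun χ _ => by simp [regInner]⟩
  | cons t l ih =>
    obtain ⟨c, hc⟩ := ih fun x hx => hl x (List.mem_cons_of_mem _ hx)
    obtain ⟨q, hq, hE⟩ := hl t List.mem_cons_self
    obtain ⟨c', hc'⟩ := exists_coeff_induced hs hR hM hB hq hE t.2.1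
    refine ⟨fun a => t.2.2 * c' a + c a, fun χ hχ => ?_⟩
    rw [List.map_cons, List.sum_cons]
    have hlin : ∀ (z : ℂ) (φ ψ : G → ℂ), regInner p (z • φ + ψ) (χ : G → ℂ) =
        z * regInner p φ (χ : G → ℂ) + regInner p ψ (χ : G → ℂ) := by
      intro z φ ψ
      simp only [regInner, Finset.mul_sum, ← Finset.sum_add_distrib]
      refine Finset.sum_congr rfl fun g _ => ?_
      split_ifs <;> simp <;> ring
    rw [hlin, mul_add, hc χ hχ, ← mul_assoc, mul_comm _ (t.2.2 : ℂ), mul_assoc, hc' χ hχ,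
      Finset.mul_sum, ← Finset.sum_add_distrib]
    exact Finset.sum_congr rfl fun a _ => by push_cast; ring

/-- For a block with equal degrees the constant vector is in the lattice. -/
theorem exists_coeff_one (hM : Cfsg.IsPModular p M) (hB : Cfsg.IsPBlock M B) {d : ℕ}
    (hd : ∀ χ ∈ B, Cfsg.charDegree ((χ : IrrCharacter G) : G → ℂ) = d) :
    ∃ c : GA (Res M) G → ℤ, ∀ χ ∈ B,
      ∑ a ∈ R, (c a : ℂ) * T M (χ : G → ℂ) 1 a = 1 := by
  classical
  set N := (Nat.card G).factorization p
  choose c hc using fun ψ : IrrCharacter G =>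
    exists_coeff_character hs hR hM hB (Characters.isCharacter_of_isIrr ψ.2)
  have hsum : ∀ χ ∈ B, ∑ ψ ∈ B.toFinset, regInner p (ψ : G → ℂ) (χ : G → ℂ) = 1 := by
    intro χ hχ
    have hd0 : (d : ℂ) ≠ 0 :=
      Nat.cast_ne_zero.2 (hd χ hχ ▸ CfsgLib.Blocks.charDegree_ne_zero χ)
    have hsing : ∀ y : G, p ∣ orderOf y → ∑ ψ ∈ B.toFinset, (ψ : G → ℂ) y = 0 := by
      intro y hy
      have h := CfsgLib.Blocks.sum_union_mul_conj_eq_zero hM (isBlockUnion_of_isPBlock hB)
        (x := 1) (y := y) (by rw [orderOf_one]; exact hp.out.not_dvd_one) hy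
      rw [← Finset.sum_filter] at h
      have h' := congrArg conj h
      rw [map_sum, map_zero] at h'
      simp only [map_mul, Complex.conj_conj] at h'
      rw [Finset.sum_congr rfl (g := fun ψ : IrrCharacter G => (d : ℂ) * (ψ : G → ℂ) y)
        fun ψ hψ => by
          rw [← CfsgLib.Blocks.charDegree_cast, hd ψ (Finset.mem_filter.1 hψ).2,
            Complex.conj_natCast], ← Finset.mul_sum] at h'
      rw [← (mul_eq_zero.1 h').resolve_left hd0]
      exact Finset.sum_congr (by ext; simp) fun _ _ => rfl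
    calc ∑ ψ ∈ B.toFinset, regInner p (ψ : G → ℂ) (χ : G → ℂ)
        = ∑ ψ ∈ B.toFinset, Cfsg.classInner (ψ : G → ℂ) (χ : G → ℂ) := by
          simp only [regInner, Cfsg.classInner, ← Finset.mul_sum]
          congr 1
          rw [Finset.sum_comm, Finset.sum_comm (s := B.toFinset)]
          refine Finset.sum_congr rfl fun g _ => ?_
          by_cases hg : p ∣ orderOf g
          · rw [← Finset.sum_mul, hsing g hg, zero_mul]
            exact Finset.sum_eq_zero fun ψ _ => by rw [if_pos hg]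
          · exact Finset.sum_congr rfl fun ψ _ => by rw [if_neg hg]
      _ = 1 := by
          rw [Finset.sum_eq_single χ (fun ψ _ hne => by
              rw [Characters.classInner_irr, if_neg hne])
            (fun h => absurd (Set.mem_toFinset.2 hχ) h), Characters.classInner_irr, if_pos rfl]
  set C : GA (Res M) G → ℤ := fun a => ∑ ψ ∈ B.toFinset, c ψ a
  have hC : ∀ χ ∈ B, ∑ a ∈ R, (C a : ℂ) * T M (χ : G → ℂ) 1 a = (p : ℂ) ^ N := by
    intro χ hχ
    simp only [C, Int.cast_sum, Finset.sum_mul]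
    rw [Finset.sum_comm, Finset.sum_congr rfl fun ψ _ => (hc ψ χ hχ).symm, ← Finset.mul_sum,
      hsum χ hχ, mul_one]
  have hdvd := pow_dvd_coeff hs hR hM hB N C fun χ hχ =>
    ⟨1, by rw [hC χ hχ, Int.cast_one, mul_one]⟩
  choose! c₁ hc₁ using hdvd
  refine ⟨c₁, fun χ hχ => mul_left_cancel₀
    (pow_ne_zero N (Nat.cast_ne_zero.2 hp.out.ne_zero) : (p : ℂ) ^ N ≠ 0) ?_⟩
  rw [mul_one, Finset.mul_sum]
  refine Eq.trans ?_ (hC χ hχ)
  refine Finset.sum_congr rfl fun a ha => ?_
  rw [hc₁ a ha]; push_cast; ring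

end CfsgLib.EqualDegrees
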