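import Cfsg.Agent.EqualDegrees.Center
import Cfsg.Agent.InertialQuotient.RankTransport
import Cfsg.Agent.BlocksLocal.CentralisingDefect

/-!
# Blocks with abelian defect group, height zero and equal degrees are nilpotent

The number of characters is the order of the defect group, the Brauer map embeds the centre of the
block into the centre of the root block, so the stabilizer of the root pair fixes the latter and
centralizes the defect group.
-/

set_option autoImplicit false
set_option linter.unusedSectionVars false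
set_option linter.style.haveILetI false

namespace CfsgLib.EqualDegrees

open Cfsg CfsgLib.BlockPairs CfsgLib.Star
open CfsgLib.Blocks (localRing red Res idemBar setIdemO isBlockUnion_of_isPBlock
  memLocalRing_blockCoeff)
open CfsgLib.BlockPairing (regInner)
open scoped ComplexConjugate

universe u

variable {p : ℕ} [hp : Fact p.Prime] {M : Ideal AlgInt} [M.IsPrime] {G : Type u} [Group G]
  [Fintype G] {B : Set (IrrCharacter G)}

/-- The members agree on the p-regular elements. -/
theorem regular_values_eq (hM : Cfsg.IsPModular p M) (hB : Cfsg.IsPBlock M B) {d : ℕ}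
    (hd : ∀ χ ∈ B, Cfsg.charDegree ((χ : IrrCharacter G) : G → ℂ) = d) {χ ψ : IrrCharacter G}
    (hχ : χ ∈ B) (hψ : ψ ∈ B) {g : G} (hg : ¬ p ∣ orderOf g) :
    (χ : G → ℂ) g = (ψ : G → ℂ) g := by
  haveI := CfsgLib.Blocks.charP_res hM
  haveI := isAlgClosed_res hM
  have hgb := isBlock_gblk (M := M) hB
  obtain ⟨s, hs⟩ := exists_decomp (A := (⊤ : Subalgebra (Res M) (GA (Res M) G)))
    (j := gblk M B) trivial hgb.idem
  obtain ⟨-, hsing⟩ := single_class hs hM hB hd
  obtain ⟨a, ha⟩ : s.Nonempty := by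
    rw [Finset.nonempty_iff_ne_empty]
    intro h
    exact hgb.ne_zero (by rw [← hs.2.2, h, Finset.sum_empty])
  obtain ⟨c, hc, -⟩ := exists_regular_scalar hs hM hB (fun b hb => (hsing b hb).2) (hsing a ha).1
    (hs.1 a ha).2.1 hg
  rw [hc χ hχ, hc ψ hψ]

/-- As many characters as the order of a defect group. -/
theorem card_block (hM : Cfsg.IsPModular p M) (hB : Cfsg.IsPBlock M B) {d : ℕ}
    (hd : ∀ χ ∈ B, Cfsg.charDegree ((χ : IrrCharacter G) : G → ℂ) = d)
    (h0 : ∀ χ ∈ B, Cfsg.blockHeight p B ((χ : IrrCharacter G) : G → ℂ) = 0) :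
    Nat.card B = p ^ Cfsg.blockDefect p B := by
  classical
  obtain ⟨χ₀, hχ₀⟩ := CfsgLib.Blocks.isPBlock_nonempty hB
  have heq : ∀ χ ∈ B, Cfsg.pRegularPart p ((χ : IrrCharacter G) : G → ℂ) =
      Cfsg.pRegularPart p (χ₀ : G → ℂ) := fun χ hχ => funext fun g => by
    simp only [Cfsg.pRegularPart]
    split_ifs with hg
    · exact regular_values_eq hM hB hd hχ hχ₀ hg
    · rfl
  have hne : Cfsg.pRegularPart p (χ₀ : G → ℂ) ≠ 0 := fun h => Characters.irr_one_ne_zero χ₀.2 (by
    have := congrFun h 1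
    simpa [Cfsg.pRegularPart, Cfsg.IsPRegular, hp.out.ne_one] using this)
  have hl : Cfsg.blockRank p B = 1 := by
    rw [Cfsg.blockRank, show (fun χ : IrrCharacter G => Cfsg.pRegularPart p (χ : G → ℂ)) '' B =
      {Cfsg.pRegularPart p (χ₀ : G → ℂ)} from Set.eq_singleton_iff_unique_mem.2
        ⟨⟨χ₀, hχ₀, rfl⟩, by rintro _ ⟨χ, hχ, rfl⟩; exact heq χ hχ⟩,
      finrank_span_singleton hne]
  have hreg : ∀ χ ∈ B, regInner p ((χ : IrrCharacter G) : G → ℂ) χ =
      regInner p (χ₀ : G → ℂ) χ₀ := by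
    intro χ hχ
    simp only [regInner]
    congr 1
    refine Finset.sum_congr rfl fun g _ => ?_
    split_ifs with hg
    · rfl
    · rw [regular_values_eq hM hB hd hχ hχ₀ hg]
  have h1 := Contributions.blockRank_eq_sum (p := p) hM hB
  rw [hl, Nat.cast_one, Finset.sum_congr rfl fun χ hχ => hreg χ (Set.mem_toFinset.1 hχ),
    Finset.sum_const, nsmul_eq_mul] at h1
  set t := Contributions.contrib p B χ₀ χ₀
  have h2 : (B.toFinset.card : ℤ) * t = ((p ^ Cfsg.blockDefect p B : ℕ) : ℤ) := by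
    refine Int.cast_injective (α := ℂ) ?_
    push_cast
    rw [Contributions.cast_contrib hχ₀, Nat.cast_pow, mul_left_comm, ← h1, mul_one]
  have ht : ¬ (p : ℤ) ∣ t := fun h => Contributions.not_dvd_of_height_zero hM hB hχ₀ hχ₀
    (h0 χ₀ hχ₀) (by rw [h0 χ₀ hχ₀, zero_add, pow_one]; exact h)
  have h3 := congrArg Int.natAbs h2
  rw [Int.natAbs_mul, Int.natAbs_natCast, Int.natAbs_natCast] at h3
  obtain ⟨j, -, hj⟩ := (Nat.dvd_prime_pow hp.out).1 (Dvd.intro_left _ h3)
  rcases Nat.eq_zero_or_pos j with rfl | hj0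
  · rw [hj, pow_zero, mul_one, Set.toFinset_card, ← Nat.card_eq_fintype_card] at h3
    exact h3
  · exact absurd (Int.natCast_dvd.2 (hj ▸ dvd_pow_self p hj0.ne')) ht

/-- The members do not vanish modulo `M` at a defect class element. -/
theorem not_mem_at_defectClass (hM : Cfsg.IsPModular p M) (hB : Cfsg.IsPBlock M B) {g₀ : G}
    (hg₀ : Cfsg.IsDefectClass M B g₀) {D : Subgroup G} (hD : Cfsg.IsDefectGroup p M B D)
    (P : Sylow p (Subgroup.centralizer ({g₀} : Set G)))
    (hDP : D = (P : Subgroup (Subgroup.centralizer ({g₀} : Set G))).map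
      (Subgroup.centralizer ({g₀} : Set G)).subtype)
    {χ : IrrCharacter G} (hχ : χ ∈ B) (h0 : Cfsg.blockHeight p B (χ : G → ℂ) = 0) :
    ¬ Cfsg.MemLocalIdeal M ((χ : G → ℂ) g₀) := by
  intro h
  refine hg₀.2.2 χ hχ ?_
  have hcard := CfsgLib.Blocks.card_defectGroup hM hB hD
  rw [hDP, Subgroup.card_map_of_injective (Subgroup.subtype_injective _)] at hcard
  have hsyl : (Nat.card (Subgroup.centralizer ({g₀} : Set G))).factorization p =
      Cfsg.blockDefect p B := by
    have := P.card_eq_multiplicity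
    rw [hcard] at this
    exact (Nat.pow_right_injective hp.out.two_le this).symm
  set C := Subgroup.centralizer ({g₀} : Set G)
  have hsum := Contributions.height_add (p := p) χ hχ
  rw [h0, zero_add] at hsum
  have hidx : C.index.factorization p = (Cfsg.charDegree (χ : G → ℂ)).factorization p := by
    rw [← C.card_mul_index, Nat.factorization_mul Nat.card_pos.ne'
      Subgroup.index_ne_zero_of_finite, Finsupp.add_apply, hsyl] at hsum
    omega
  set b := C.index.factorization p
  set d := Cfsg.charDegree (χ : G → ℂ)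
  have hd0 : d ≠ 0 := CfsgLib.Blocks.charDegree_ne_zero χ
  obtain ⟨i', hi⟩ := Nat.ordProj_dvd C.index p
  obtain ⟨d', hd'⟩ := Nat.ordProj_dvd d p
  have hd'p : ¬ p ∣ d' := by
    have h1 := Nat.not_dvd_ordCompl hp.out hd0
    have h2 : d / p ^ d.factorization p = d' :=
      Nat.div_eq_of_eq_mul_right (pow_pos hp.out.pos _) hd'
    rwa [h2] at h1
  have hval : Cfsg.centralChar (χ : G → ℂ) g₀ = ((i' : ℂ) * (d' : ℂ)⁻¹) * (χ : G → ℂ) g₀ := by
    rw [Cfsg.centralChar, ← CfsgLib.Blocks.charDegree_cast]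
    show (C.index : ℂ) * _ / (d : ℂ) = _
    rw [hi, hd', ← hidx]
    have hp0 : (p : ℂ) ≠ 0 := Nat.cast_ne_zero.2 hp.out.ne_zero
    have hd'0 : (d' : ℂ) ≠ 0 := Nat.cast_ne_zero.2 fun h => hd'p (h ▸ dvd_zero p)
    push_cast
    field_simp
    simp only [b]
    ring
  rw [hval]
  exact CfsgLib.Blocks.memLocalIdeal_mul_left
    (Subring.mul_mem (localRing M) (CfsgLib.Blocks.memLocalRing_natCast _)
      (CfsgLib.Blocks.memLocalRing_natCast_inv hM hd'p)) h

/-- Equal degrees and height zero with an abelian defect group force nilpotency. -/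
theorem isNilpotentBlock (hM : Cfsg.IsPModular p M) (hB : Cfsg.IsPBlock M B) {D : Subgroup G}
    (hD : Cfsg.IsDefectGroup p M B D) (hab : ∀ x ∈ D, ∀ y ∈ D, x * y = y * x)
    (h0 : ∀ χ ∈ B, Cfsg.blockHeight p B ((χ : IrrCharacter G) : G → ℂ) = 0) {d : ℕ}
    (hd : ∀ χ ∈ B, Cfsg.charDegree ((χ : IrrCharacter G) : G → ℂ) = d) :
    Cfsg.IsNilpotentBlock p M B := by
  classical
  haveI := CfsgLib.Blocks.charP_res hM
  haveI := isAlgClosed_res hM
  have hDC : D ≤ Subgroup.centralizer (D : Set G) := fun x hx =>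
    Subgroup.mem_centralizer_iff.2 fun y hy => hab y hy x hx
  have hgb := isBlock_gblk (M := M) hB
  have hdg := (isDefectGroup_gblk_iff hB D).1 hD
  obtain ⟨f, hf⟩ := exists_blockHas hgb hdg.1 hdg.2.1 hdg.2.2.1
  have hmax := isMaxPair_of_defect hdg hf
  refine (isNilpotentBlock_gblk_iff hB).2 ((nilp_iff_of_abelian hgb hmax hDC).2 ?_)
  have hfC : IsBlock (Subgroup.centralizer (D : Set G)) f := by
    have := hf.1.2.2
    rwa [cent_top] at this
  set C := Subgroup.centralizer (D : Set G) with hC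
  haveI := Fintype.ofFinite C
  obtain ⟨c, hc, hfeq⟩ := exists_eq_sblk (M := M) hfC
  have hcD : Cfsg.IsDefectGroup p M c (D.subgroupOf C) := by
    refine (isDefectGroup_subgroupOf_iff hc hDC).2 ?_
    rw [← hfeq]
    exact ((InertialQuotient.defect_centralizer hgb hmax hDC Le.refl').isDefectGrp hfC).1
  haveI : (D.subgroupOf C).Normal := ⟨fun n hn g => by
    rw [Subgroup.mem_subgroupOf] at hn ⊢
    have := Subgroup.mem_centralizer_iff.1 g.2 n hn
    rw [Subgroup.coe_mul, Subgroup.coe_mul, Subgroup.coe_inv, ← this, mul_inv_cancel_right]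
    exact hn⟩
  have hkc : Nat.card c = Nat.card D := by
    have hsup : D.subgroupOf C ⊔ Subgroup.centralizer (D.subgroupOf C : Set C) = ⊤ := by
      refine eq_top_iff.2 fun g _ => Subgroup.mem_sup_right (Subgroup.mem_centralizer_iff.2
        fun n hn => Subtype.ext ?_)
      exact Subgroup.mem_centralizer_iff.1 g.2 _ hn
    rw [BlocksLocal.card_block_eq (CfsgLib.Blocks.IsDefectGroup.isPGroup hcD) hsup hM hc hcD,
      ← Nat.card_congr (Subgroup.subgroupOfEquivOfLe hDC).toEquiv]
    refine (Nat.card_congr (Equiv.ofBijective ConjClasses.mk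
      ⟨fun x y h => ?_, ConjClasses.mk_surjective⟩)).symm
    obtain ⟨z, hz⟩ := isConj_iff.1 (ConjClasses.mk_eq_mk_iff_isConj.1 h)
    refine Eq.trans ?_ hz
    refine Subtype.ext (Subtype.ext ?_)
    have := hab _ (Subgroup.mem_subgroupOf.1 z.2) _ (Subgroup.mem_subgroupOf.1 x.2)
    simp only [Subgroup.coe_mul, Subgroup.coe_inv]
    rw [this, mul_inv_cancel_right]
  obtain ⟨g₀, hg₀, P, hDP⟩ := hD
  have hD' : Cfsg.IsDefectGroup p M B D := ⟨g₀, hg₀, P, hDP⟩
  have hk : Nat.card B = Nat.card D := by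
    rw [card_block hM hB hd h0, CfsgLib.Blocks.card_defectGroup hM hB hD']
  have hDg : D ≤ Subgroup.centralizer ({g₀} : Set G) := hDP ▸ Subgroup.map_subtype_le _
  have hnm : ∀ χ ∈ B, ¬ Cfsg.MemLocalIdeal M (((χ : IrrCharacter G) : G → ℂ) g₀) :=
    fun χ hχ => not_mem_at_defectClass hM hB hg₀ hD' P hDP hχ (h0 χ hχ)
  -- the map to the centre of the root block
  have hbrb : br D (gblk M B) =
      orbitSum ((⊤ : Subgroup G) ⊓ Subgroup.normalizer (D : Set G)) f :=
    (hmax.isDefectGrp hgb).2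
  let Ψ : GA (Res M) G →ₗ[Res M] GA (Res M) G :=
    { toFun := fun z => br D z * f
      map_add' := fun a b => by rw [br_add, add_mul]
      map_smul' := fun r a => by rw [br_smul, smul_mul_assoc]; rfl }
  have hsubz : ∀ {z}, z ∈ centre (gblk M B) → z ∈ sub (F := Res M) (⊤ : Subgroup G) ⊤ := by
    rintro _ ⟨w, hw, rfl⟩
    exact mul_mem hgb.mem hw
  have hinj : Function.Injective (Ψ.domRestrict (centre (gblk M B))) := by
    refine LinearMap.ker_eq_bot.1 (LinearMap.ker_eq_bot'.2 fun z hz => Subtype.ext ?_)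
    refine eq_zero_of_br hM hB hd hg₀ hDg hdg.2.1 hnm z.2 ?_
    have hzf : br D (z : GA (Res M) G) * f = 0 := hz
    obtain ⟨w, hw, hwz⟩ := z.2
    have hzfix := (hsubz z.2).2
    have hfixN : IsFixed ((⊤ : Subgroup G) ⊓ Subgroup.normalizer (D : Set G))
        (br D (z : GA (Res M) G)) := isFixed_br inf_le_right (hzfix.mono inf_le_left)
    have he : gblk M B * (z : GA (Res M) G) = z := by
      rw [← hwz, LinearMap.mulLeft_apply, ← mul_assoc, hgb.idem]
    have hee : (z : GA (Res M) G) * gblk M B = z := by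
      rw [central_of_mem_sub (hsubz z.2), he]
    rw [← hee, br_mul hdg.2.1 (hzfix.mono le_top) (hgb.fixed.mono le_top), hbrb, orbitSum,
      Finset.mul_sum]
    refine Finset.sum_eq_zero fun x hx => ?_
    obtain ⟨n, rfl⟩ := (Set.Finite.mem_toFinset _).1 hx
    rw [← hfixN n n.2, ← conjA_mul, hzf, conjA_zero]
  let W : Submodule (Res M) (GA (Res M) G) :=
    (Subalgebra.toSubmodule (sub (F := Res M) C C)).map (LinearMap.mulLeft (Res M) f)
  have himg : (centre (gblk M B)).map Ψ ≤ W := by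
    rintro _ ⟨z, hz, rfl⟩
    have hbz := br_mem_cent_block (P := D) (hsubz hz)
    rw [cent_top, ← hC] at hbz
    refine ⟨br D z, hbz, ?_⟩
    show f * br D z = br D z * f
    exact BlockPairs.sub_comm hfC.mem hbz
  have hW : Module.finrank (Res M) W ≤ Nat.card D := by
    let L : GA (Res M) C →ₗ[Res M] GA (Res M) G :=
      { toFun := fun a => emb C.subtype a
        map_add' := map_add _
        map_smul' := fun r a => by
          refine ga_ext fun g => ?_
          by_cases hg : g ∈ C.subtype.range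
          · obtain ⟨x, rfl⟩ := hg
            rw [RingHom.id_apply, MonoidAlgebra.coeff_smul, Finsupp.smul_apply,
              emb_coeff_apply C.subtype_injective, emb_coeff_apply C.subtype_injective,
              MonoidAlgebra.coeff_smul, Finsupp.smul_apply]
          · rw [RingHom.id_apply, MonoidAlgebra.coeff_smul, Finsupp.smul_apply,
              emb_coeff_not_mem _ _ hg, emb_coeff_not_mem _ _ hg, smul_zero] }
    have hle : W ≤ (centre (idemBar M c (isBlockUnion_of_isPBlock hc) : GA (Res M) C)).map L := by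
      rintro _ ⟨y, hy, rfl⟩
      obtain ⟨y', hy'⟩ := exists_emb C.subtype_injective
        (z := y) (by rwa [C.range_subtype])
      refine ⟨(idemBar M c (isBlockUnion_of_isPBlock hc) : GA (Res M) C) * (y' : GA (Res M) C),
        ⟨y', ⟨isSupp_top _, fun u _ => ga_ext fun g => ?_⟩, rfl⟩, ?_⟩
      · rw [conjA_coeff]
        have := CfsgLib.Blocks.coeff_conj_of_mem_ctr y'.2 g u⁻¹
        rwa [inv_inv] at this
      · show emb C.subtype _ = f * y
        rw [map_mul, hy', hfeq, sblk, blkE_eq]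
    refine (Submodule.finrank_mono hle).trans ((Submodule.finrank_map_le _ _).trans ?_)
    rw [finrank_centre, hkc]
  have hdim : Module.finrank (Res M) ((centre (gblk M B)).map Ψ) = Nat.card D := by
    rw [← LinearMap.range_domRestrict, LinearMap.finrank_range_of_inj hinj,
      CyclicDefect.gblk_eq_idemBar hB, finrank_centre, hk]
  have hWeq : (centre (gblk M B)).map Ψ = W :=
    Submodule.eq_of_le_of_finrank_le himg (hdim.symm ▸ hW)
  intro x hx
  refine Subgroup.mem_centralizer_iff.2 fun u hu => ?_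
  have huC : u ∈ C := hDC hu
  have hus : MonoidAlgebra.single u (1 : Res M) ∈ sub (F := Res M) C C := by
    constructor
    · intro g hg
      rw [MonoidAlgebra.coeff_single] at hg
      rw [← (Finsupp.single_apply_ne_zero.1 hg).1.symm]
      exact huC
    · intro v hv
      rw [BlockPairs.conjA, MonoidAlgebra.single_mul_single, MonoidAlgebra.single_mul_single,
        mul_one, mul_one, ← Subgroup.mem_centralizer_iff.1 hv u hu, mul_inv_cancel_right]
  have hmem : f * MonoidAlgebra.single u 1 ∈ (centre (gblk M B)).map Ψ :=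
    hWeq ▸ ⟨_, hus, rfl⟩
  obtain ⟨z, hz, hzu⟩ := hmem
  have hfixx : conjA (Res M) x (Ψ z) = Ψ z := by
    show conjA (Res M) x (br D z * f) = br D z * f
    rw [conjA_mul, hx.2,
      isFixed_br (R := (⊤ : Subgroup G) ⊓ Subgroup.normalizer (D : Set G)) inf_le_right
        ((hsubz hz).2.mono inf_le_left) x ⟨hx.1.1, hx.1.2⟩]
  rw [hzu, conjA_mul, hx.2] at hfixx
  have hcj : conjA (Res M) x (MonoidAlgebra.single u (1 : Res M)) =
      MonoidAlgebra.single (x * u * x⁻¹) 1 := by
    simp [BlockPairs.conjA]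
  rw [hcj] at hfixx
  obtain ⟨h, hh⟩ : ∃ h, f.coeff h ≠ 0 := by
    by_contra hne
    push Not at hne
    exact hfC.ne_zero (ga_ext fun g => by rw [hne g]; rfl)
  have hregsupp : ∀ g, f.coeff g ≠ 0 → g ∈ C ∧ ¬ p ∣ orderOf g := by
    intro g hg
    refine ⟨hfC.supp g hg, fun hd' => hg ?_⟩
    rw [hfeq, sblk_coeff, Cfsg.subgroupBlockCoeff, dif_pos (hfC.supp g hg),
      CfsgLib.Blocks.blockCoeff_eq_zero_of_singular hM (isBlockUnion_of_isPBlock hc)
        (by rwa [Subgroup.orderOf_mk]), redC_zero]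
  set u' := u * (x * u * x⁻¹)⁻¹ with hu'
  have hu'D : u' ∈ D :=
    mul_mem hu (inv_mem ((Subgroup.mem_normalizer_iff.1 hx.1.2 u).1 hu))
  have hcoef : f.coeff (h * u') ≠ 0 := by
    have := congrArg (fun y : GA (Res M) G => y.coeff (h * u)) hfixx
    simp only [MonoidAlgebra.coeff_mul_single_apply, mul_one, mul_inv_cancel_right] at this
    rw [hu', ← mul_assoc, this]
    exact hh
  obtain ⟨hhC, hhr⟩ := hregsupp h hh
  obtain ⟨-, hhr'⟩ := hregsupp _ hcoef
  have hcomm : Commute u' h := Subgroup.mem_centralizer_iff.1 hhC u' hu'D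
  obtain ⟨k, hk'⟩ := IsPGroup.iff_orderOf.1 hdg.2.1 ⟨u', hu'D⟩
  rw [Subgroup.orderOf_mk] at hk'
  have hpp : Cfsg.IsPPart p (h * u') u' :=
    ⟨h, hcomm.eq, hcomm, ⟨k, hk'⟩, hhr⟩
  have hone : Cfsg.IsPPart p (h * u') 1 :=
    ⟨h * u', one_mul _, Commute.one_left _, ⟨0, by simp⟩, hhr'⟩
  have hu1 : u' = 1 := CfsgLib.Blocks.isPPart_unique hp.out hpp hone
  rw [hu', mul_inv_eq_one] at hu1
  calc u * x = x * u * x⁻¹ * x := by rw [← hu1]
    _ = x * u := inv_mul_cancel_right _ _

end CfsgLib.EqualDegrees
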