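import Cfsg.Agent.EqualDegrees.Lattice

/-!
# A block with equal degrees has one class of primitive idempotents

The classes of primitive idempotents have disjoint supports among the characters, so they cut the
block idempotent into central idempotents; there is one class and every member takes the value one
on a lifted primitive idempotent.  On p-regular elements the members agree and the translate of the
block idempotent is a multiple of a primitive idempotent under every trace.
-/

set_option autoImplicit false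
set_option linter.unusedSectionVars false
set_option linter.style.haveILetI false

namespace CfsgLib.EqualDegrees

open Cfsg CfsgLib.BlockPairs CfsgLib.Star
open CfsgLib.Blocks (localRing red Res idemBar setIdemO isBlockUnion_of_isPBlock
  memLocalRing_blockCoeff)
open scoped ComplexConjugate

universe u

variable {p : ℕ} [hp : Fact p.Prime] {M : Ideal AlgInt} [M.IsPrime] {G : Type u} [Group G]
  [Fintype G] {B : Set (IrrCharacter G)}

/-- An idempotent of trace zero acts as zero. -/
theorem tau_eq_zero_of_trace_zero {χ : G → ℂ} (hχ : Cfsg.IsCharacter G χ)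
    {E : MonoidAlgebra (localRing M) G} (hE : E * E = E) (h0 : tau M χ E = 0)
    (Y Z : MonoidAlgebra (localRing M) G) : tau M χ (Y * E * Z) = 0 := by
  obtain ⟨n, ρ, rfl⟩ := hχ
  set φ := (ρ.asAlgebraHom.toRingHom.comp (MonoidAlgebra.mapRingHom G (localRing M).subtype))
  have hφ : ∀ a, tau M ρ.character a = LinearMap.trace ℂ _ (φ a) :=
    fun a => CyclicDefect.tau_eq_trace ρ a
  have hP : φ E * φ E = φ E := by rw [← map_mul, hE]
  have hproj : LinearMap.IsProj (LinearMap.range (φ E)) (φ E) :=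
    ⟨fun x => LinearMap.mem_range_self _ x, fun x ⟨y, hy⟩ => by
      rw [← hy, ← Module.End.mul_apply, hP]⟩
  rw [hφ, hproj.trace, Nat.cast_eq_zero, Submodule.finrank_eq_zero, LinearMap.range_eq_bot] at h0
  rw [hφ, map_mul φ, map_mul φ, h0, mul_zero, zero_mul, map_zero]

/-- An element killed by every character is zero. -/
theorem eq_zero_of_tau (Y : MonoidAlgebra (localRing M) G)
    (h : ∀ (χ : IrrCharacter G) (Z : MonoidAlgebra (localRing M) G),
      tau M (χ : G → ℂ) (Y * Z) = 0) : Y = 0 := by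
  classical
  refine MonoidAlgebra.ext (Finsupp.ext fun g => Subtype.ext ?_)
  have h1 : ∑ χ : IrrCharacter G,
      (χ : G → ℂ) 1 * tau M (χ : G → ℂ) (Y * MonoidAlgebra.single g⁻¹ 1) =
        (Nat.card G : ℂ) * (Y.coeff g : ℂ) := by
    calc ∑ χ : IrrCharacter G,
          (χ : G → ℂ) 1 * tau M (χ : G → ℂ) (Y * MonoidAlgebra.single g⁻¹ 1)
        = ∑ x : G, (Y.coeff x : ℂ) *
            ∑ χ : IrrCharacter G, (χ : G → ℂ) 1 * (χ : G → ℂ) (x * g⁻¹) := by
          simp only [Finset.mul_sum]
          rw [Finset.sum_comm]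
          refine Finset.sum_congr rfl fun χ _ => ?_
          rw [tau_apply, Finset.mul_sum]
          refine (Fintype.sum_equiv (Equiv.mulRight g⁻¹) _ _ fun x => ?_).symm
          simp only [Equiv.coe_mulRight, MonoidAlgebra.coeff_mul_single_apply, mul_one, inv_inv,
            inv_mul_cancel_right]
          ring
      _ = (Nat.card G : ℂ) * (Y.coeff g : ℂ) := by
          simp only [Characters.sum_degree_mul, mul_inv_eq_one, mul_ite, mul_zero,
            Finset.sum_ite_eq', Finset.mem_univ, if_true]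
          ring
  simp only [h, mul_zero, Finset.sum_const_zero] at h1
  simpa [Characters.natCard_ne_zero] using h1.symm

/-- Idempotents with disjoint supports among the characters are orthogonal through every
element. -/
theorem mul_mul_eq_zero_of_disjoint {a b : GA (Res M) G} (ha : a * a = a) (hb : b * b = b)
    (h : ∀ χ : IrrCharacter G, T M (χ : G → ℂ) 1 a = 0 ∨ T M (χ : G → ℂ) 1 b = 0)
    (x : GA (Res M) G) : a * x * b = 0 := by
  obtain ⟨A, hA, hAz⟩ := exists_lift (M := M) a ha
  obtain ⟨A', hA', hAz'⟩ := exists_lift (M := M) b hb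
  obtain ⟨X, hX⟩ := exists_above (M := M) x
  have h0 : A * X * A' = 0 := by
    refine eq_zero_of_tau _ fun χ Z => ?_
    have hcl := Characters.isClassFunction_of_isIrr χ.2
    rcases h χ with h1 | h1
    · rw [T_one hcl hA (hAz 1 (conjA_one_left a)).2] at h1
      have := tau_eq_zero_of_trace_zero (Characters.isCharacter_of_isIrr χ.2) hA h1 1 (X * A' * Z)
      simpa [mul_assoc] using this
    · rw [T_one hcl hA' (hAz' 1 (conjA_one_left b)).2] at h1
      exact tau_eq_zero_of_trace_zero (Characters.isCharacter_of_isIrr χ.2) hA' h1 (A * X) Z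
  have := congrArg (rho M G) h0
  rwa [map_mul, map_mul, map_zero, (hAz 1 (conjA_one_left a)).2,
    (hX 1 (conjA_one_left x)).2, (hAz' 1 (conjA_one_left b)).2] at this

variable [CharP (Res M) p] [IsAlgClosed (Res M)]
variable {s : Finset (GA (Res M) G)}
  (hs : IsDecomp (⊤ : Subalgebra (Res M) (GA (Res M) G)) (gblk M B) s)
include hs

/-- One class of primitive idempotents, as many as the degree, of rank one. -/
theorem single_class (hM : Cfsg.IsPModular p M) (hB : Cfsg.IsPBlock M B) {d : ℕ}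
    (hd : ∀ χ ∈ B, Cfsg.charDegree ((χ : IrrCharacter G) : G → ℂ) = d) :
    s.card = d ∧ ∀ a ∈ s, (∀ b ∈ s, Eqv (⊤ : Subalgebra (Res M) (GA (Res M) G)) a b) ∧
      ∀ χ ∈ B, T M ((χ : IrrCharacter G) : G → ℂ) 1 a = 1 := by
  classical
  obtain ⟨R, hR⟩ := exists_reps hs
  obtain ⟨c, hc⟩ := exists_coeff_one hs hR hM hB hd
  choose n hn using fun (χ : IrrCharacter G) (a : GA (Res M) G) =>
    show ∃ n : ℕ, a ∈ s → T M (χ : G → ℂ) 1 a = n by
      by_cases ha : a ∈ s
      · obtain ⟨n, hn⟩ := exists_nat_T χ (hs.1 a ha).2.1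
        exact ⟨n, fun _ => hn⟩
      · exact ⟨0, fun h => absurd h ha⟩
  have hcnt : ∀ a ∈ R, ((part (⊤ : Subalgebra (Res M) (GA (Res M) G)) s a).card : ℤ) = d * c a := by
    intro a ha
    refine sub_eq_zero.1 (coeff_eq_zero hs hR hM hB
      (fun x => ((part (⊤ : Subalgebra (Res M) (GA (Res M) G)) s x).card : ℤ) - d * c x)
      (fun χ hχ => ?_) ha)
    simp only [Int.cast_sub, Int.cast_mul, Int.cast_natCast, sub_mul, Finset.sum_sub_distrib,
      mul_assoc, ← Finset.mul_sum, hc χ hχ, mul_one]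
    rw [← degree_eq_sum hs hR hB hχ, ← CfsgLib.Blocks.charDegree_cast, hd χ hχ, sub_self]
  have hc1 : ∀ a ∈ R, 1 ≤ c a := by
    intro a ha
    have hpos : 0 < (part (⊤ : Subalgebra (Res M) (GA (Res M) G)) s a).card :=
      Finset.card_pos.2 ⟨a, mem_part.2 ⟨hR.sub ha, Eqv.refl (hs.1 a (hR.sub ha))⟩⟩
    have h1 := hcnt a ha
    by_contra h
    have h2 : (d : ℤ) * c a ≤ 0 := mul_nonpos_of_nonneg_of_nonpos (Int.natCast_nonneg d) (by omega)
    omega
  have hsum : ∀ χ ∈ B, ∑ a ∈ R, c a * (n χ a : ℤ) = 1 := by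
    intro χ hχ
    refine Int.cast_injective (α := ℂ) ?_
    rw [Int.cast_one, ← hc χ hχ, Int.cast_sum]
    exact Finset.sum_congr rfl fun a ha => by
      rw [hn χ a (hR.sub ha)]; push_cast; ring
  have hle : ∀ χ ∈ B, ∀ a ∈ R, n χ a ≠ 0 → c a = 1 ∧ n χ a = 1 ∧
      ∀ b ∈ R, b ≠ a → n χ b = 0 := by
    intro χ hχ a ha hna
    have hnn : ∀ b ∈ R, 0 ≤ c b * (n χ b : ℤ) := fun b hb =>
      mul_nonneg (le_trans zero_le_one (hc1 b hb)) (Int.natCast_nonneg _)
    have h1 := hsum χ hχ
    rw [← Finset.add_sum_erase R _ ha] at h1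
    have h2 : 1 ≤ c a * (n χ a : ℤ) :=
      one_le_mul_of_one_le_of_one_le (hc1 a ha) (by omega)
    have h3 : ∑ b ∈ R.erase a, c b * (n χ b : ℤ) = 0 := le_antisymm (by omega)
      (Finset.sum_nonneg fun b hb => hnn b (Finset.mem_erase.1 hb).2)
    have h4 : c a * (n χ a : ℤ) = 1 := by omega
    have h5 := Int.eq_one_of_mul_eq_one_right (le_trans zero_le_one (hc1 a ha)) h4
    refine ⟨h5, ?_, fun b hb hne => ?_⟩
    · rw [h5, one_mul] at h4
      exact_mod_cast h4
    · have h6 := (Finset.sum_eq_zero_iff_of_nonneg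
        fun x hx => hnn x (Finset.mem_erase.1 hx).2).1 h3 b (Finset.mem_erase.2 ⟨hne, hb⟩)
      rcases mul_eq_zero.1 h6 with h | h
      · have := hc1 b hb; omega
      · exact_mod_cast h
  have hex : ∀ a ∈ R, ∃ χ ∈ B, n χ a ≠ 0 := by
    intro a ha
    by_contra hne
    push Not at hne
    have h := coeff_eq_zero hs hR hM hB (fun x => if x = a then 1 else 0) (fun χ hχ => by
      rw [Finset.sum_eq_single a (fun b _ hb => by simp [hb]) (fun h => absurd ha h),
        hn χ a (hR.sub ha), hne χ hχ]; simp) ha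
    simp at h
  have hrep : ∀ b ∈ s, ∀ a ∈ R, Eqv (⊤ : Subalgebra (Res M) (GA (Res M) G)) a b →
      ∀ χ : IrrCharacter G, T M (χ : G → ℂ) 1 b = n χ a := fun b hb a ha hab χ => by
    rw [← T_congr (Characters.isClassFunction_of_isIrr χ.2) (hs.1 a (hR.sub ha)).2.1
      (hs.1 b hb).2.1 hab, hn χ a (hR.sub ha)]
  have horth : ∀ a ∈ R, ∀ b ∈ part (⊤ : Subalgebra (Res M) (GA (Res M) G)) s a, ∀ b' ∈ s,
      b' ∉ part (⊤ : Subalgebra (Res M) (GA (Res M) G)) s a → ∀ x : GA (Res M) G,
      b * x * b' = 0 ∧ b' * x * b = 0 := by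
    intro a ha b hb b' hb' hnb x
    obtain ⟨hbs, hab⟩ := mem_part.1 hb
    obtain ⟨a', ha', hab'⟩ := hR.cover b' hb'
    have hne : a' ≠ a := fun h => hnb (mem_part.2 ⟨hb', h ▸ hab'⟩)
    have key : ∀ χ : IrrCharacter G, T M (χ : G → ℂ) 1 b = 0 ∨ T M (χ : G → ℂ) 1 b' = 0 := by
      intro χ
      by_cases hχ : χ ∈ B
      · rw [hrep b hbs a ha hab, hrep b' hb' a' ha' hab']
        by_cases h0 : n χ a = 0
        · left; rw [h0, Nat.cast_zero]
        · right; rw [(hle χ hχ a ha h0).2.2 a' ha' hne, Nat.cast_zero]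
      · exact Or.inl (T_mem_not_mem hs hB hχ hbs)
    exact ⟨mul_mul_eq_zero_of_disjoint (hs.1 b hbs).2.1 (hs.1 b' hb').2.1 key x,
      mul_mul_eq_zero_of_disjoint (hs.1 b' hb').2.1 (hs.1 b hbs).2.1
        (fun χ => (key χ).symm) x⟩
  have hgb := isBlock_gblk (M := M) hB
  have hall : ∀ a ∈ R, part (⊤ : Subalgebra (Res M) (GA (Res M) G)) s a = s := by
    intro a ha
    set P := part (⊤ : Subalgebra (Res M) (GA (Res M) G)) s a with hP
    have hPs : P ⊆ s := part_subset s a
    set f := ∑ b ∈ P, b with hfdef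
    have hfb : ∀ b ∈ s, f * b = if b ∈ P then b else 0 := by
      intro b hb
      rw [hfdef, Finset.sum_mul]
      split_ifs with h
      · rw [Finset.sum_eq_single b (fun x hx hne => hs.2.1 x (hPs hx) b hb hne)
          (fun h' => absurd h h'), (hs.1 b hb).2.1]
      · exact Finset.sum_eq_zero fun x hx => hs.2.1 x (hPs hx) b hb (fun e => h (e ▸ hx))
    have hbf : ∀ b ∈ s, b * f = if b ∈ P then b else 0 := by
      intro b hb
      rw [hfdef, Finset.mul_sum]
      split_ifs with h
      · rw [Finset.sum_eq_single b (fun x hx hne => hs.2.1 b hb x (hPs hx) (Ne.symm hne))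
          (fun h' => absurd h h'), (hs.1 b hb).2.1]
      · exact Finset.sum_eq_zero fun x hx => hs.2.1 b hb x (hPs hx) (fun e => h (e ▸ hx))
    have hfe : f * gblk M B = f := by
      rw [← hs.2.2, Finset.mul_sum, Finset.sum_congr rfl hfb, ← Finset.sum_filter]
      exact Finset.sum_congr (by ext b; simpa using fun hb => hPs hb) fun _ _ => rfl
    have hef : gblk M B * f = f := by
      rw [mul_comm_of_fixed_supp hgb.fixed (isSupp_top f), hfe]
    have hff : f * f = f := by
      conv_lhs => arg 2; rw [hfdef]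
      rw [Finset.mul_sum]
      exact Finset.sum_congr rfl fun b hb => by rw [hfb b (hPs hb), if_pos hb]
    have hcomm : ∀ x, f * x = x * f := by
      intro x
      have hdiff : ∀ b' ∈ s, b' ∉ P → f * x * b' = 0 ∧ b' * x * f = 0 := by
        intro b' hb' hnb
        constructor
        · rw [hfdef, Finset.sum_mul, Finset.sum_mul]
          exact Finset.sum_eq_zero fun b hb => (horth a ha b hb b' hb' hnb x).1
        · rw [hfdef, Finset.mul_sum]
          exact Finset.sum_eq_zero fun b hb => (horth a ha b hb b' hb' hnb x).2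
      calc f * x = f * x * gblk M B := by
            rw [mul_assoc, ← mul_comm_of_fixed_supp hgb.fixed (isSupp_top x), ← mul_assoc, hfe]
        _ = f * x * f := by
            rw [← hs.2.2, Finset.mul_sum, hfdef, Finset.mul_sum]
            exact (Finset.sum_subset hPs fun b' hb' hnb => (hdiff b' hb' hnb).1).symm
        _ = gblk M B * x * f := by
            conv_rhs => rw [← hs.2.2, Finset.sum_mul, Finset.sum_mul]
            conv_lhs => arg 1; arg 1; rw [hfdef]
            rw [Finset.sum_mul, Finset.sum_mul]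
            exact Finset.sum_subset hPs fun b' hb' hnb => (hdiff b' hb' hnb).2
        _ = x * f := by
            rw [mul_comm_of_fixed_supp hgb.fixed (isSupp_top x), mul_assoc, hef]
    have hfsub : f ∈ sub (F := Res M) (⊤ : Subgroup G) ⊤ := by
      refine ⟨isSupp_top f, fun g _ => ?_⟩
      rw [BlockPairs.conjA, ← hcomm, mul_assoc, MonoidAlgebra.single_mul_single, mul_inv_cancel,
        mul_one, ← MonoidAlgebra.one_def, mul_one]
    have haP : a ∈ P := mem_part.2 ⟨hR.sub ha, Eqv.refl (hs.1 a (hR.sub ha))⟩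
    rcases hgb.dichotomy hfsub hff with h | h
    · rw [hfe] at h
      have := hfb a (hR.sub ha)
      rw [h, zero_mul, if_pos haP] at this
      exact absurd this.symm (hs.1 a (hR.sub ha)).2.2.1
    · rw [hfe] at h
      refine Finset.Subset.antisymm hPs fun b hb => ?_
      by_contra hnb
      have := hbf b hb
      rw [h, if_neg hnb, (hs.mul_mem_eq hb).2] at this
      exact (hs.1 b hb).2.2.1 this
  obtain ⟨χ₀, hχ₀⟩ := CfsgLib.Blocks.isPBlock_nonempty hB
  obtain ⟨a₀, ha₀⟩ : R.Nonempty := by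
    rw [Finset.nonempty_iff_ne_empty]
    intro h
    have := hsum χ₀ hχ₀
    rw [h, Finset.sum_empty] at this
    exact zero_ne_one this
  obtain ⟨χ₁, hχ₁, hna⟩ := hex a₀ ha₀
  have hcard : s.card = d := by
    have h := hcnt a₀ ha₀
    rw [hall a₀ ha₀, (hle χ₁ hχ₁ a₀ ha₀ hna).1, mul_one] at h
    exact_mod_cast h
  refine ⟨hcard, fun a ha => ?_⟩
  have hmem : ∀ b ∈ s, Eqv (⊤ : Subalgebra (Res M) (GA (Res M) G)) a₀ b := fun b hb =>
    (mem_part.1 ((hall a₀ ha₀).symm ▸ hb :
      b ∈ part (⊤ : Subalgebra (Res M) (GA (Res M) G)) s a₀)).2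
  refine ⟨fun b hb => (hmem a ha).symm.trans (hmem b hb) (hs.1 a ha).2.1 (hs.1 b hb).2.1,
    fun χ hχ => ?_⟩
  rw [hrep a ha a₀ ha₀ (hmem a ha)]
  have : n χ a₀ ≠ 0 := by
    intro h0
    have h := hsum χ hχ
    rw [Finset.sum_eq_zero fun b hb => ?_] at h
    · exact zero_ne_one h
    · have hb0 : b = a₀ := (hR.inj a₀ ha₀ b hb (hmem b (hR.sub hb))).symm
      rw [hb0, h0]; simp
  rw [(hle χ hχ a₀ ha₀ this).2.1, Nat.cast_one]

omit hs in
theorem coeff_one_mul_comm (x y : GA (Res M) G) : (x * y).coeff 1 = (y * x).coeff 1 := by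
  induction x using MonoidAlgebra.induction_linear with
  | zero => simp
  | add a b ha hb => rw [add_mul, mul_add, MonoidAlgebra.coeff_add, MonoidAlgebra.coeff_add,
      Finsupp.add_apply, Finsupp.add_apply, ha, hb]
  | single g r =>
    rw [MonoidAlgebra.coeff_single_mul_apply, MonoidAlgebra.coeff_mul_single_apply, mul_one,
      one_mul, mul_comm]

omit hs in
/-- Equivalent idempotents have the same trace against a central element. -/
theorem coeff_one_central_congr {z i j : GA (Res M) G} (hz : ∀ x, z * x = x * z)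
    (h : Eqv (⊤ : Subalgebra (Res M) (GA (Res M) G)) i j) :
    (z * i).coeff 1 = (z * j).coeff 1 := by
  obtain ⟨x, -, y, -, rfl, rfl⟩ := h
  rw [← mul_assoc, coeff_one_mul_comm, ← mul_assoc, ← hz, mul_assoc]

/-- On a p-regular element the members agree, and the translate of the block idempotent has the
traces of a multiple of a primitive idempotent. -/
theorem exists_regular_scalar (hM : Cfsg.IsPModular p M) (hB : Cfsg.IsPBlock M B)
    (hT : ∀ a ∈ s, ∀ χ ∈ B, T M ((χ : IrrCharacter G) : G → ℂ) 1 a = 1)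
    {a : GA (Res M) G} (heqv : ∀ b ∈ s, Eqv (⊤ : Subalgebra (Res M) (GA (Res M) G)) a b)
    (ha : a * a = a) {g : G} (hg : ¬ p ∣ orderOf g) :
    ∃ c : localRing M, (∀ χ ∈ B, ((χ : IrrCharacter G) : G → ℂ) g = (c : ℂ)) ∧
      ∀ z : GA (Res M) G, (∀ x, z * x = x * z) →
        (z * (gblk M B * MonoidAlgebra.single g 1)).coeff 1 = red M c * (z * a).coeff 1 := by
  classical
  have hBu := isBlockUnion_of_isPBlock hB
  obtain ⟨N, e, σ, he, hecomm, hge⟩ := CfsgLib.Blocks.exists_idem_decomposition hM hg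
  set E₀ := (setIdemO M B (memLocalRing_blockCoeff hBu) : MonoidAlgebra (localRing M) G) with hE₀
  have hE₀i : E₀ * E₀ = E₀ := by
    rw [hE₀, ← Subring.coe_mul]
    congr 1
    exact CfsgLib.Blocks.ctr_ext_omegaO fun ψ => by
      rw [map_mul, CfsgLib.Blocks.omegaO_setIdemO]; split_ifs <;> simp
  have hid : ∀ j, (E₀ * e j) * (E₀ * e j) = E₀ * e j := fun j => by
    have hc : Commute E₀ (e j) :=
      (Subring.mem_center_iff.1 (setIdemO M B (memLocalRing_blockCoeff hBu)).2 (e j)).symm
    rw [hc.symm.mul_mul_mul_comm, hE₀i, he]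
  have hdec : ∀ j, ∃ t : Finset (GA (Res M) G),
      IsDecomp (⊤ : Subalgebra (Res M) (GA (Res M) G)) (rho M G (E₀ * e j)) t ∧
      ∀ x ∈ t, Eqv (⊤ : Subalgebra (Res M) (GA (Res M) G)) a x := by
    intro j
    obtain ⟨t, ht⟩ := exists_decomp (A := (⊤ : Subalgebra (Res M) (GA (Res M) G)))
      (j := rho M G (E₀ * e j)) trivial (by rw [← map_mul, hid])
    refine ⟨t, ht, fun x hx => ?_⟩
    obtain ⟨b, hb, hxb⟩ := exists_eqv_mem hs (ht.1 x hx) (by
      rw [← (ht.mul_mem_eq hx).1, ← mul_assoc, ← gblk_eq hBu, ← map_mul, ← mul_assoc, hE₀i])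
    exact (heqv b hb).trans hxb.symm ha (ht.1 x hx).2.1
  choose t ht hta using hdec
  obtain ⟨a', ha'⟩ : s.Nonempty := by
    rw [Finset.nonempty_iff_ne_empty]
    intro h0
    exact (isBlock_gblk (M := M) hB).ne_zero (by rw [← hs.2.2, h0, Finset.sum_empty])
  refine ⟨∑ j, σ j * ((t j).card : localRing M), fun χ hχ => ?_, fun z hz => ?_⟩
  · have hcl := Characters.isClassFunction_of_isIrr χ.2
    have hj : ∀ j, tau M (χ : G → ℂ) (e j) = ((t j).card : ℂ) := fun j => by
      have h1 : tau M (χ : G → ℂ) (E₀ * e j) = tau M (χ : G → ℂ) (e j) := by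
        rw [hE₀, tau_mul_setIdemO χ hBu, if_pos hχ]
      rw [← h1, ← T_one hcl (hid j) rfl, T_decomp hcl (ht j),
        Finset.sum_congr rfl (g := fun _ => (1 : ℂ)), Finset.sum_const, nsmul_one]
      intro x hx
      rw [← T_congr hcl ha ((ht j).1 x hx).2.1 (hta j x hx),
        T_congr hcl ha (hs.1 a' ha').2.1 (heqv a' ha'), hT a' ha' χ hχ]
    have h2 : tau M (χ : G → ℂ) (MonoidAlgebra.single g 1) = (χ : G → ℂ) g := by
      rw [tau_apply, Finset.sum_eq_single g (fun b _ hb => by simp [Ne.symm hb]) (by simp)]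
      simp
    rw [← h2, hge, map_sum, AddSubmonoidClass.coe_finsetSum]
    refine Finset.sum_congr rfl fun j _ => ?_
    rw [Subring.coe_mul, SubringClass.coe_natCast, ← hj j]
    simp only [tau_apply, MonoidAlgebra.coeff_smul, Finsupp.smul_apply, smul_eq_mul,
      Subring.coe_mul, Finset.mul_sum, mul_assoc]
  · have h3 : gblk M B * MonoidAlgebra.single g (1 : Res M) =
        ∑ j, red M (σ j) • ∑ x ∈ t j, x := by
      have h4 := congrArg (fun w => rho M G (E₀ * w)) hge
      simp only [map_mul, hE₀, gblk_eq hBu, Finset.mul_sum, map_sum] at h4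
      rw [show rho M G (MonoidAlgebra.single g 1) = MonoidAlgebra.single g (1 : Res M) by
        simp [rho]] at h4
      rw [h4]
      refine Finset.sum_congr rfl fun j _ => ?_
      rw [(ht j).2.2, map_mul, hE₀, gblk_eq hBu, ← mul_smul_comm]
      congr 1
      exact ga_ext fun x => by simp
    have hlin : ∀ (ι : Type) (S : Finset ι) (f : ι → GA (Res M) G),
        (∑ i ∈ S, f i).coeff 1 = ∑ i ∈ S, (f i).coeff 1 := fun ι S f => by
      rw [MonoidAlgebra.coeff_sum, Finsupp.finsetSum_apply]
    rw [h3, Finset.mul_sum, hlin, map_sum, Finset.sum_mul]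
    refine Finset.sum_congr rfl fun j _ => ?_
    rw [mul_smul_comm, MonoidAlgebra.coeff_smul, Finsupp.smul_apply, smul_eq_mul, Finset.mul_sum,
      MonoidAlgebra.coeff_sum, Finsupp.finsetSum_apply, map_mul, map_natCast, mul_assoc,
      Finset.sum_congr rfl (g := fun _ => (z * a).coeff 1), Finset.sum_const, nsmul_eq_mul]
    exact fun x hx => (coeff_one_central_congr hz (hta j x hx)).symm

end CfsgLib.EqualDegrees
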